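import Cfsg.Agent.Lib.Coprime.Action
import Mathlib.GroupTheory.Sylow
import Mathlib.GroupTheory.PGroup
import Mathlib.Tactic

/-!
# An involution centralising a subgroup of index two of a self-centralising 2-core

If `Q` is a normal self-centralising 2-subgroup, `z` centralises a subgroup of index at most 2 in
`Q` and `z` is the square of `i`, then `z` centralises every odd subgroup normalised by `i`.
-/

set_option autoImplicit false

namespace Cfsg.Agent.Dichotomy43

open Subgroup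

variable {H : Type*} [Group H] [Finite H]

/-- If two elements outside a subgroup of index at most two are multiplied, the product is inside. -/
theorem mul_mem_of_relIndex_le_two {A B : Subgroup H} (h : A.relIndex B ≤ 2) {a b : H} (ha : a ∈ B)
    (hb : b ∈ B) (ha' : a ∉ A) (hb' : b ∉ A) : a * b ∈ A := by
  have h0 : (A.subgroupOf B).index ≠ 0 := Subgroup.index_ne_zero_of_finite
  have h2 : (A.subgroupOf B).index = 2 := by
    have h1 : (A.subgroupOf B).index ≤ 2 := h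
    have h3 : (A.subgroupOf B).index ≠ 1 := fun h => ha' (by
      have h' : (⟨a, ha⟩ : B) ∈ A.subgroupOf B := by
        rw [Subgroup.index_eq_one.mp h]; exact mem_top _
      exact h')
    omega
  have h4 : (⟨a, ha⟩ : B) * ⟨b, hb⟩ ∈ A.subgroupOf B :=
    (Subgroup.mul_mem_iff_of_index_two h2).mpr (iff_of_false ha' hb')
  exact h4

/-- An element of odd prime power order fixes an element of a coset it stabilises. -/
theorem exists_fixed_of_coset {p : ℕ} [Fact p.Prime] (hp : p ≠ 2) {A : Subgroup H}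
    (hA : IsPGroup 2 A) {y : H} (hy : ∃ n : ℕ, y ^ p ^ n = 1) {q : H}
    (hAy : ∀ a ∈ A, y * a * y⁻¹ ∈ A) (hq : q⁻¹ * (y * q * y⁻¹) ∈ A) :
    ∃ a ∈ A, Commute y (q * a) := by
  haveI : Fact (Nat.Prime 2) := ⟨Nat.prime_two⟩
  let Ω := {e : H // q⁻¹ * e ∈ A}
  let f : Equiv.Perm Ω := Equiv.ofBijective
    (fun e => ⟨y * e.1 * y⁻¹, by
      have h := mul_mem hq (hAy _ e.2)
      have he : q⁻¹ * (y * q * y⁻¹) * (y * (q⁻¹ * e.1) * y⁻¹) = q⁻¹ * (y * e.1 * y⁻¹) := by group
      rwa [he] at h⟩)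
    (Finite.injective_iff_bijective.mp fun a b h => Subtype.ext (by
      have := congrArg Subtype.val h
      simpa using this))
  have hfv : ∀ e : Ω, (f e).1 = y * e.1 * y⁻¹ := fun _ => rfl
  obtain ⟨n, hn⟩ := hy
  have hfpow : ∀ (m : ℕ) (e : Ω), ((f ^ m) e).1 = y ^ m * e.1 * (y ^ m)⁻¹ := by
    intro m
    induction m with
    | zero => intro e; simp
    | succ m ih =>
      intro e
      rw [pow_succ', Equiv.Perm.mul_apply, hfv, ih, pow_succ' y]
      group
  have hf1 : f ^ p ^ n = 1 := Equiv.ext fun e => Subtype.ext (by rw [hfpow, hn]; simp)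
  have hG : IsPGroup p (zpowers f) := by
    obtain ⟨j, -, hj⟩ := (Nat.dvd_prime_pow (Fact.out : p.Prime)).mp (orderOf_dvd_of_pow_eq_one hf1)
    exact IsPGroup.of_card (by rw [Nat.card_zpowers, hj])
  have hcard : ¬ p ∣ Nat.card Ω := by
    have h1 : Nat.card Ω = Nat.card A := Nat.card_congr
      { toFun := fun e => ⟨q⁻¹ * e.1, e.2⟩
        invFun := fun a => ⟨q * a.1, by simp⟩
        left_inv := fun e => Subtype.ext (by simp)
        right_inv := fun a => Subtype.ext (by simp) }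
    obtain ⟨k, hk⟩ := IsPGroup.iff_card.mp hA
    rw [h1, hk]
    exact fun h => hp ((Nat.prime_dvd_prime_iff_eq (Fact.out : p.Prime) Nat.prime_two).mp
      ((Fact.out : p.Prime).dvd_of_dvd_pow h))
  obtain ⟨e, he⟩ := hG.nonempty_fixed_point_of_prime_not_dvd_card Ω hcard
  have h1 : f e = e := he ⟨f, mem_zpowers f⟩
  refine ⟨q⁻¹ * e.1, e.2, ?_⟩
  rw [mul_inv_cancel_left]
  exact mul_inv_eq_iff_eq_mul.mp ((hfv e).symm.trans (congrArg Subtype.val h1))

variable {Q : Subgroup H} {z : H}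

/-- The hypotheses. -/
structure Setting (Q : Subgroup H) (z : H) : Prop where
  normal : Q.Normal
  isPGroup : IsPGroup 2 Q
  self_cent : centralizer (Q : Set H) ≤ Q
  sq : z * z = 1
  index_le : (Q ⊓ centralizer ({z} : Set H)).relIndex Q ≤ 2

/-- An element of prime order `r` inverted by `z`. -/
structure IsInverted (z : H) (r : ℕ) (x : H) : Prop where
  pow : x ^ r = 1
  inv : z * x * z⁻¹ = x⁻¹

namespace Setting

theorem eq_one_of_centralizes (D : Setting Q z) {y : H} {m : ℕ} (hm : Odd m) (hy : y ^ m = 1)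
    (h : ∀ q ∈ Q, Commute y q) : y = 1 := by
  have hyQ : y ∈ Q := D.self_cent (mem_centralizer_iff.mpr fun q hq => (h q hq).symm.eq)
  obtain ⟨k, hk⟩ := D.isPGroup ⟨y, hyQ⟩
  have hk' : y ^ 2 ^ k = 1 := congrArg Subtype.val hk
  have h1 : y ^ Nat.gcd m (2 ^ k) = 1 := pow_gcd_eq_one.mpr ⟨hy, hk'⟩
  rwa [Nat.Coprime.gcd_eq_one ((Nat.coprime_two_right.mpr hm).pow_right k), pow_one] at h1

theorem conj_mem (D : Setting Q z) (g : H) {q : H} (hq : q ∈ Q) : g * q * g⁻¹ ∈ Q :=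
  D.normal.conj_mem q hq g

theorem conj_mem' (D : Setting Q z) (g : H) {q : H} (hq : q ∈ Q) : g⁻¹ * q * g ∈ Q :=
  D.normal.conj_mem' q hq g

theorem mul_commute (D : Setting Q z) {a b : H} (ha : a ∈ Q) (hb : b ∈ Q) (ha' : ¬ Commute a z)
    (hb' : ¬ Commute b z) : Commute (a * b) z := by
  have h := mul_mem_of_relIndex_le_two D.index_le ha hb
    (fun h => ha' (mem_centralizer_singleton_iff.mp h.2))
    (fun h => hb' (mem_centralizer_singleton_iff.mp h.2))
  exact mem_centralizer_singleton_iff.mp h.2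

theorem inv_mul_commute (D : Setting Q z) {a b : H} (ha : a ∈ Q) (hb : b ∈ Q) (ha' : ¬ Commute a z)
    (hb' : ¬ Commute b z) : Commute (a⁻¹ * b) z :=
  D.mul_commute (inv_mem ha) hb (fun h => ha' (inv_inv a ▸ h.inv_left)) hb'

end Setting

variable {r : ℕ} [hr : Fact r.Prime]

theorem IsInverted.commute_of_pow {x q : H} (hx : IsInverted z r x) {m : ℕ} (hm : x ^ m ≠ 1)
    (h : Commute q (x ^ m)) : Commute q x := by
  have hxo : orderOf x = r := orderOf_eq_prime hx.pow (fun h1 => hm (by rw [h1, one_pow]))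
  have hcop : (orderOf x).Coprime m := by
    rw [hxo, (Fact.out : r.Prime).coprime_iff_not_dvd]
    rintro ⟨k, rfl⟩
    exact hm (by rw [pow_mul, hx.pow, one_pow])
  obtain ⟨n, hn⟩ := exists_pow_eq_self_of_coprime hcop.symm
  rw [← hn]
  exact h.pow_right n

theorem IsInverted.pow' {x : H} (hx : IsInverted z r x) (m : ℕ) : IsInverted z r (x ^ m) :=
  ⟨by rw [← pow_mul, mul_comm, pow_mul, hx.pow, one_pow], by
    rw [← conj_pow, hx.inv, inv_pow]⟩

theorem IsInverted.mul {x y : H} (hx : IsInverted z r x) (hy : IsInverted z r y) (h : Commute x y) :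
    IsInverted z r (x * y) :=
  ⟨by rw [h.mul_pow, hx.pow, hy.pow, one_mul], by
    rw [h.eq, mul_inv_rev, ← h.eq]
    rw [show z * (x * y) * z⁻¹ = z * x * z⁻¹ * (z * y * z⁻¹) by group, hx.inv, hy.inv]⟩

namespace Setting

/-- The intersection of two of the three subgroups of index two. -/
theorem commute_of_pair (D : Setting Q z) (hr2 : r ≠ 2) {x q : H} (hx : IsInverted z r x) {m : ℕ}
    (hm : x ^ m ≠ 1) (hq : Commute q z) (hq' : Commute ((x ^ m)⁻¹ * q * x ^ m) z) : Commute q x := by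
  refine hx.commute_of_pow hm ?_
  have hy := hx.pow' m
  generalize hyd : x ^ m = y at hm hq' hy ⊢
  have h1 : Commute q (y * z * y⁻¹) := by
    have h := hq'.map (MulAut.conj y).toMonoidHom
    simpa [mul_assoc] using h
  have hzy : z * y⁻¹ = y * z := by
    have h := congrArg (fun e => e⁻¹) hy.inv
    simp only [mul_inv_rev, inv_inv] at h
    calc z * y⁻¹ = z * y⁻¹ * z⁻¹ * z := by group
      _ = y * z := by
        rw [show z * y⁻¹ * z⁻¹ = z * (y⁻¹ * z⁻¹) by group, h]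
  have h2 : Commute q (y * y) := by
    have h := h1.mul_right hq.inv_right
    rwa [mul_assoc y z y⁻¹, hzy, ← mul_assoc, mul_inv_cancel_right] at h
  have hyo : orderOf y = r := orderOf_eq_prime hy.pow hm
  have hcop : Nat.Coprime 2 (orderOf y) := by
    rw [hyo, Nat.coprime_primes Nat.prime_two (Fact.out : r.Prime)]
    exact Ne.symm hr2
  obtain ⟨n, hn⟩ := exists_pow_eq_self_of_coprime hcop
  rw [← hn, pow_two]
  exact h2.pow_right n

theorem exists_not_commute (D : Setting Q z) (hr2 : r ≠ 2) {x : H} (hx : IsInverted z r x)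
    (hx1 : x ≠ 1) : ∃ q ∈ Q, Commute q z ∧ ¬ Commute q x := by
  by_contra h
  push Not at h
  have hodd : Odd r := (Fact.out : r.Prime).odd_of_ne_two hr2
  refine hx1 (D.eq_one_of_centralizes hodd hx.pow ?_)
  by_cases hall : ∀ q ∈ Q, Commute q z
  · exact fun q hq => (h q hq (hall q hq)).symm
  push Not at hall
  obtain ⟨q, hq, hqz⟩ := hall
  have hin : ∀ a ∈ Q ⊓ centralizer ({z} : Set H), Commute x a := fun a ha =>
    (h a ha.1 (mem_centralizer_singleton_iff.mp ha.2)).symm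
  have hmove : q⁻¹ * (x * q * x⁻¹) ∈ Q ⊓ centralizer ({z} : Set H) := by
    refine mem_inf.mpr ⟨mul_mem (inv_mem hq) (D.conj_mem x hq), mem_centralizer_singleton_iff.mpr
      (D.inv_mul_commute hq (D.conj_mem x hq) hqz fun hc => hqz ?_).eq⟩
    have h1 := h _ (D.conj_mem x hq) hc
    have h2 : x * q * x⁻¹ = q := by
      have h3 : x⁻¹ * (x * q * x⁻¹) * x = x * q * x⁻¹ := by rw [mul_assoc, h1.eq, inv_mul_cancel_left]
      simpa [mul_assoc] using h3.symm
    rwa [h2] at hc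
  obtain ⟨a, ha, hfix⟩ := exists_fixed_of_coset hr2 (D.isPGroup.to_le inf_le_left)
    ⟨1, by rw [pow_one]; exact hx.pow⟩
    (fun a ha => by rw [(hin a ha).eq, mul_inv_cancel_right]; exact ha) hmove
  intro b hb
  by_cases hbz : Commute b z
  · exact (h b hb hbz).symm
  · have hqa : ¬ Commute (q * a) z := fun hc => hqz (by
      have h1 := hc.mul_left ((show Commute a z from mem_centralizer_singleton_iff.mp ha.2).inv_left :
        Commute a⁻¹ z)
      rwa [mul_inv_cancel_right] at h1)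
    have h1 := h _ (mul_mem (inv_mem (mul_mem hq ha.1)) hb)
      (D.inv_mul_commute (mul_mem hq ha.1) hb hqa hbz)
    have h2 := hfix.mul_right h1.symm
    rwa [mul_inv_cancel_left] at h2

/-- Every element of `Q` has one of the three conjugates commuting with `z`. -/
theorem exhaust (D : Setting Q z) (hr2 : r ≠ 2) {x : H} (hx : IsInverted z r x) (hx1 : x ≠ 1)
    {q : H} (hq : q ∈ Q) :
    Commute q z ∨ Commute (x⁻¹ * q * x) z ∨ Commute ((x ^ 2)⁻¹ * q * x ^ 2) z := by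
  obtain ⟨q₀, hq₀, hq₀z, hq₀x⟩ := D.exists_not_commute hr2 hx hx1
  have hxo : orderOf x = r := orderOf_eq_prime hx.pow hx1
  have hx2 : x ^ 2 ≠ 1 := fun h => by
    have := orderOf_dvd_of_pow_eq_one h
    rw [hxo, Nat.prime_dvd_prime_iff_eq (Fact.out : r.Prime) Nat.prime_two] at this
    exact hr2 this
  have hx1' : x ^ 1 ≠ 1 := by rwa [pow_one]
  by_contra hne
  push Not at hne
  obtain ⟨h0, h1, h2⟩ := hne
  set e := x ^ 2 * q₀ * (x ^ 2)⁻¹ with he
  have heQ : e ∈ Q := D.conj_mem _ hq₀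
  have hex : ¬ Commute e x := fun hc => hq₀x (by
    have h := hc.map (MulAut.conj (x ^ 2)⁻¹).toMonoidHom
    rw [he] at h
    simpa [mul_assoc, pow_two] using h)
  have he2 : (x ^ 2)⁻¹ * e * x ^ 2 = q₀ := by rw [he]; group
  have he0 : ¬ Commute e z := fun hc => hex (D.commute_of_pair hr2 hx hx2 hc (by rw [he2]; exact hq₀z))
  have he1 : ¬ Commute (x⁻¹ * e * x) z := fun hc => by
    have h := D.commute_of_pair hr2 hx hx1' hc (by
      rw [pow_one, show x⁻¹ * (x⁻¹ * e * x) * x = (x ^ 2)⁻¹ * e * x ^ 2 by simp [pow_two, mul_assoc],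
        he2]; exact hq₀z)
    have h' := h.map (MulAut.conj x).toMonoidHom
    exact hex (by simpa [mul_assoc] using h')
  have ha0 : Commute (e⁻¹ * q) z := D.inv_mul_commute heQ hq he0 h0
  have ha1 : Commute (x⁻¹ * (e⁻¹ * q) * x) z := by
    have h := D.inv_mul_commute (D.conj_mem' x heQ) (D.conj_mem' x hq) he1 h1
    rwa [show (x⁻¹ * e * x)⁻¹ * (x⁻¹ * q * x) = x⁻¹ * (e⁻¹ * q) * x by group] at h
  have hax := D.commute_of_pair hr2 hx hx1' ha0 (by simpa using ha1)
  apply h2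
  have h2a : (x ^ 2)⁻¹ * (e⁻¹ * q) * x ^ 2 = e⁻¹ * q := by
    rw [mul_assoc, (hax.pow_right 2).eq, inv_mul_cancel_left]
  have h3 : Commute ((x ^ 2)⁻¹ * (e⁻¹ * q) * x ^ 2) z := by rw [h2a]; exact ha0
  have h := (he2 ▸ hq₀z : Commute ((x ^ 2)⁻¹ * e * x ^ 2) z).mul_left h3
  rwa [show (x ^ 2)⁻¹ * e * x ^ 2 * ((x ^ 2)⁻¹ * (e⁻¹ * q) * x ^ 2) = (x ^ 2)⁻¹ * q * x ^ 2 by
    group] at h

/-- An inverted element of prime order has order 3. -/
theorem eq_three (D : Setting Q z) (hr2 : r ≠ 2) {x : H} (hx : IsInverted z r x) (hx1 : x ≠ 1) :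
    r = 3 := by
  by_contra hr3
  obtain ⟨q₀, hq₀, hq₀z, hq₀x⟩ := D.exists_not_commute hr2 hx hx1
  have hxo : orderOf x = r := orderOf_eq_prime hx.pow hx1
  have hne : ∀ m, m = 1 ∨ m = 2 ∨ m = 3 → x ^ m ≠ 1 := by
    intro m hm h
    have hd := orderOf_dvd_of_pow_eq_one h
    rw [hxo] at hd
    rcases hm with rfl | rfl | rfl
    · exact (Fact.out : r.Prime).one_lt.ne' (Nat.dvd_one.mp hd)
    · exact hr2 ((Nat.prime_dvd_prime_iff_eq (Fact.out : r.Prime) Nat.prime_two).mp hd)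
    · exact hr3 ((Nat.prime_dvd_prime_iff_eq (Fact.out : r.Prime) Nat.prime_three).mp hd)
  -- if a conjugate of `q₀` by `x ^ m` commutes with `z`, then so does `q₀` with `x`
  have key : ∀ m, m = 1 ∨ m = 2 ∨ m = 3 → ¬ Commute (x ^ m * q₀ * (x ^ m)⁻¹) z := by
    intro m hm hc
    have h := D.commute_of_pair hr2 hx (hne m hm) hc (by
      rw [show (x ^ m)⁻¹ * (x ^ m * q₀ * (x ^ m)⁻¹) * x ^ m = q₀ by group]; exact hq₀z)
    apply hq₀x
    have h' := h.map (MulAut.conj (x ^ m)⁻¹).toMonoidHom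
    simp only [MulEquiv.coe_toMonoidHom, MulAut.conj_apply, inv_inv] at h'
    rwa [show (x ^ m)⁻¹ * (x ^ m * q₀ * (x ^ m)⁻¹) * x ^ m = q₀ by group,
      show (x ^ m)⁻¹ * x * x ^ m = x by rw [mul_assoc, ← pow_succ', pow_succ, inv_mul_cancel_left]] at h'
  rcases D.exhaust hr2 hx hx1 (D.conj_mem (x ^ 3) hq₀) with h | h | h
  · exact key 3 (by simp) h
  · refine key 2 (by simp) ?_
    rwa [show x⁻¹ * (x ^ 3 * q₀ * (x ^ 3)⁻¹) * x = x ^ 2 * q₀ * (x ^ 2)⁻¹ by group] at h
  · refine key 1 (by simp) ?_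
    rwa [show (x ^ 2)⁻¹ * (x ^ 3 * q₀ * (x ^ 3)⁻¹) * x ^ 2 = x ^ 1 * q₀ * (x ^ 1)⁻¹ by group] at h

end Setting

variable [Fact (Nat.Prime 3)]

namespace Setting

/-- The fixed points of an inverted element of order 3 commute with `z`. -/
theorem commute_z_of_commute (D : Setting Q z) {x : H} (hx : IsInverted z 3 x) (hx1 : x ≠ 1)
    {q : H} (hq : q ∈ Q) (hqx : Commute q x) : Commute q z := by
  rcases D.exhaust (by norm_num) hx hx1 hq with h | h | h
  · exact h
  · rwa [mul_assoc, hqx.eq, inv_mul_cancel_left] at h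
  · rwa [mul_assoc, (hqx.pow_right 2).eq, inv_mul_cancel_left] at h

/-- Elements commuting with `z` and not with `x` form a single coset. -/
theorem inv_mul_commute_x (D : Setting Q z) {x : H} (hx : IsInverted z 3 x) (hx1 : x ≠ 1)
    {a b : H} (ha : a ∈ Q) (hb : b ∈ Q) (haz : Commute a z) (hbz : Commute b z)
    (hax : ¬ Commute a x) (hbx : ¬ Commute b x) : Commute (a⁻¹ * b) x := by
  have hm : x ^ 1 ≠ 1 := by rwa [pow_one]
  have hna : ∀ c : H, Commute c z → ¬ Commute c x → ¬ Commute (x⁻¹ * c * x) z := fun c hcz hcx h =>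
    hcx (D.commute_of_pair (by norm_num) hx hm hcz (by simpa using h))
  refine D.commute_of_pair (by norm_num) hx hm (haz.inv_left.mul_left hbz) ?_
  have h := D.inv_mul_commute (D.conj_mem' x ha) (D.conj_mem' x hb) (hna a haz hax) (hna b hbz hbx)
  rw [pow_one]
  rwa [show (x⁻¹ * a * x)⁻¹ * (x⁻¹ * b * x) = x⁻¹ * (a⁻¹ * b) * x by group] at h

/-- An element of 3-power order commuting with `x` fixes a point outside the fixed points of `x`. -/
theorem exists_fixed_outside (D : Setting Q z) {x : H} (hx : IsInverted z 3 x) (hx1 : x ≠ 1)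
    {y : H} (hy : ∃ n : ℕ, y ^ 3 ^ n = 1) (hxy : Commute x y) {q₀ : H} (hq₀ : q₀ ∈ Q)
    (hz₀ : Commute q₀ z) (hx₀ : ¬ Commute q₀ x) (hyq : Commute (y * q₀ * y⁻¹) z) :
    ∃ q ∈ Q, Commute q z ∧ ¬ Commute q x ∧ Commute y q := by
  set A : Subgroup H := Q ⊓ centralizer ({x} : Set H) with hAdef
  have hA : ∀ {a}, a ∈ A ↔ a ∈ Q ∧ Commute a x := fun {a} =>
    ⟨fun h => ⟨h.1, mem_centralizer_singleton_iff.mp h.2⟩,
      fun h => ⟨h.1, mem_centralizer_singleton_iff.mpr h.2.eq⟩⟩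
  have hyA : ∀ a ∈ A, y * a * y⁻¹ ∈ A := fun a ha => by
    obtain ⟨h1, h2⟩ := hA.mp ha
    exact hA.mpr ⟨D.conj_mem y h1, (hxy.symm.mul_left h2).mul_left hxy.symm.inv_left⟩
  have hnot : ¬ Commute (y * q₀ * y⁻¹) x := fun h => hx₀ (by
    have h1 := (hxy.symm.inv_left.mul_left h).mul_left hxy.symm
    simpa [mul_assoc] using h1)
  obtain ⟨a, ha, hfix⟩ := exists_fixed_of_coset (p := 3) (by norm_num)
    (D.isPGroup.to_le inf_le_left) hy (q := q₀) hyA
    (hA.mpr ⟨mul_mem (inv_mem hq₀) (D.conj_mem y hq₀),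
      D.inv_mul_commute_x hx hx1 hq₀ (D.conj_mem y hq₀) hz₀ hyq hx₀ hnot⟩)
  obtain ⟨ha1, ha2⟩ := hA.mp ha
  refine ⟨q₀ * a, mul_mem hq₀ ha1, hz₀.mul_left (D.commute_z_of_commute hx hx1 ha1 ha2), ?_, hfix⟩
  exact fun h => hx₀ (by simpa using h.mul_left ha2.inv_left)

/-- Commuting inverted elements of order 3 generate a cyclic group. -/
theorem exists_pow_eq (D : Setting Q z) {x y : H} (hx : IsInverted z 3 x) (hx1 : x ≠ 1)
    (hy : IsInverted z 3 y) (hxy : Commute x y) : ∃ k : ℕ, k < 3 ∧ y = x ^ k := by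
  obtain ⟨q₀, hq₀, hz₀, hx₀⟩ := D.exists_not_commute (r := 3) (by norm_num) hx hx1
  -- adjust `y` by a power of `x` so that it stabilises the coset of `q₀`
  obtain ⟨k, hk, hkz⟩ : ∃ k, k < 3 ∧ Commute ((x ^ k)⁻¹ * (y * q₀ * y⁻¹) * x ^ k) z := by
    rcases D.exhaust (r := 3) (by norm_num) hx hx1 (D.conj_mem y hq₀) with h | h | h
    · exact ⟨0, by norm_num, by simpa using h⟩
    · exact ⟨1, by norm_num, by simpa using h⟩
    · exact ⟨2, by norm_num, h⟩
  refine ⟨k, hk, ?_⟩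
  set y' := (x ^ k)⁻¹ * y with hy'
  have hinv : IsInverted z 3 y' := by
    have h2 : x ^ (3 * k - k) * x ^ k = 1 := by
      rw [← pow_add, Nat.sub_add_cancel (by omega), pow_mul, hx.pow, one_pow]
    rw [hy', ← eq_inv_of_mul_eq_one_left h2]
    exact (hx.pow' _).mul hy (hxy.pow_left _)
  by_contra hne
  have hy'1 : y' ≠ 1 := fun h => hne (by rw [hy', inv_mul_eq_one] at h; exact h.symm)
  have hxy' : Commute x y' := ((Commute.refl x).pow_right k).inv_right.mul_right hxy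
  obtain ⟨q, hq, hqz, hqx, hfix⟩ := D.exists_fixed_outside hx hx1
    ⟨1, by rw [pow_one]; exact hinv.pow⟩ hxy' hq₀ hz₀ hx₀ (by
      rw [hy', show (x ^ k)⁻¹ * y * q₀ * ((x ^ k)⁻¹ * y)⁻¹ =
        (x ^ k)⁻¹ * (y * q₀ * y⁻¹) * x ^ k by group]
      exact hkz)
  have h1 : Commute y' (x * q * x⁻¹) := (hxy'.symm.mul_right hfix).mul_right hxy'.symm.inv_right
  have h2 := D.commute_z_of_commute hinv hy'1 (D.conj_mem x hq) h1.symm
  have h3 := D.commute_of_pair (r := 3) (by norm_num) hx (m := 1) (by rwa [pow_one]) h2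
    (by simpa [mul_assoc] using hqz)
  exact hqx (by
    have h4 := h3.map (MulAut.conj x⁻¹).toMonoidHom
    simpa [mul_assoc] using h4)

/-- A 3-element commuting with `z`, `x`, `x'` which centralises their common fixed points is trivial. -/
theorem eq_one_of_central (D : Setting Q z) {x x' c : H} (hx : IsInverted z 3 x) (hx1 : x ≠ 1)
    (hx' : IsInverted z 3 x') (hx'1 : x' ≠ 1) {n : ℕ} (hc : c ^ 3 ^ n = 1) (hcz : Commute c z)
    (hcx : Commute c x) (hcx' : Commute c x')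
    (hN : ∀ q ∈ Q, Commute q x → Commute q x' → Commute c q) : c = 1 := by
  have hodd : Odd (3 ^ n) := Odd.pow (by decide)
  refine D.eq_one_of_centralizes hodd hc ?_
  -- the fixed points of `x`
  have hA : ∀ a ∈ Q, Commute a x → Commute c a := by
    intro a ha hax
    by_cases hax' : Commute a x'
    · exact hN a ha hax hax'
    have haz := D.commute_z_of_commute hx hx1 ha hax
    set N : Subgroup H := Q ⊓ centralizer ({x, x'} : Set H) with hNdef
    have hmem : ∀ {b}, b ∈ N ↔ b ∈ Q ∧ Commute b x ∧ Commute b x' := by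
      intro b
      rw [hNdef, mem_inf, mem_centralizer_iff]
      simp only [Set.mem_insert_iff, Set.mem_singleton_iff, forall_eq_or_imp, forall_eq]
      exact ⟨fun h => ⟨h.1, h.2.1.symm, h.2.2.symm⟩, fun h => ⟨h.1, h.2.1.eq.symm, h.2.2.eq.symm⟩⟩
    have hcN : ∀ b ∈ N, c * b * c⁻¹ ∈ N := fun b hb => by
      obtain ⟨h1, h2, h3⟩ := hmem.mp hb
      rwa [(hN b h1 h2 h3).eq, mul_inv_cancel_right]
    have hcax : Commute (c * a * c⁻¹) x := (hcx.mul_left hax).mul_left hcx.inv_left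
    have hcax' : ¬ Commute (c * a * c⁻¹) x' := fun h => hax' (by
      have h1 := (hcx'.inv_left.mul_left h).mul_left hcx'
      simpa [mul_assoc] using h1)
    obtain ⟨b, hb, hfix⟩ := exists_fixed_of_coset (p := 3) (by norm_num)
      (D.isPGroup.to_le inf_le_left) ⟨n, hc⟩ (q := a) hcN
      (hmem.mpr ⟨mul_mem (inv_mem ha) (D.conj_mem c ha), hax.inv_left.mul_left hcax,
        D.inv_mul_commute_x hx' hx'1 ha (D.conj_mem c ha) haz
          (D.commute_z_of_commute hx hx1 (D.conj_mem c ha) hcax) hax' hcax'⟩)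
    obtain ⟨h1, h2, h3⟩ := hmem.mp hb
    simpa using hfix.mul_right (hN b h1 h2 h3).inv_right
  -- the elements commuting with `z`
  have hQ0 : ∀ q ∈ Q, Commute q z → Commute c q := by
    intro q hq hqz
    by_cases hqx : Commute q x
    · exact hA q hq hqx
    obtain ⟨q', hq', hq'z, hq'x, hfix⟩ := D.exists_fixed_outside hx hx1 ⟨n, hc⟩ hcx.symm hq hqz hqx
      ((hcz.mul_left hqz).mul_left hcz.inv_left)
    have h := hA _ (mul_mem (inv_mem hq') hq) (D.inv_mul_commute_x hx hx1 hq' hq hq'z hqz hq'x hqx)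
    simpa using hfix.mul_right h
  intro q hq
  have hconj : ∀ m : ℕ, Commute ((x ^ m)⁻¹ * q * x ^ m) z → Commute c q := fun m hm => by
    have h := ((hcx.pow_right m).mul_right (hQ0 _ (D.conj_mem' _ hq) hm)).mul_right
      (hcx.pow_right m).inv_right
    simpa [mul_assoc] using h
  rcases D.exhaust (r := 3) (by norm_num) hx hx1 hq with h | h | h
  · exact hQ0 q hq h
  · exact hconj 1 (by simpa using h)
  · exact hconj 2 h

/-- Two inverted elements of order 3 in a 3-subgroup generate a cyclic group. -/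
theorem commute_of_isPGroup (D : Setting Q z) {Y : Subgroup H} (hY : IsPGroup 3 Y) {x x' : H}
    (hxY : x ∈ Y) (hx'Y : x' ∈ Y) (hx : IsInverted z 3 x) (hx1 : x ≠ 1) (hx' : IsInverted z 3 x')
    (hx'1 : x' ≠ 1) : Commute x x' := by
  by_contra hne
  set Y₀ := closure ({x, x'} : Set H) with hY₀
  have hY₀p : IsPGroup 3 Y₀ := hY.to_le ((closure_le _).mpr (by
    intro w hw; rcases hw with rfl | rfl <;> assumption))
  have hxY₀ : x ∈ Y₀ := subset_closure (by simp)
  have hx'Y₀ : x' ∈ Y₀ := subset_closure (by simp)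
  have hnt : Nontrivial Y₀ := ⟨⟨⟨x, hxY₀⟩, 1, fun h => hx1 (congrArg Subtype.val h)⟩⟩
  haveI := hY₀p.center_nontrivial
  obtain ⟨c, hc1⟩ := exists_ne (1 : center Y₀)
  have hcc : ∀ w ∈ Y₀, Commute ((c : Y₀) : H) w := fun w hw =>
    (congrArg Subtype.val (mem_center_iff.mp c.2 ⟨w, hw⟩)).symm
  have hcne : ((c : Y₀) : H) ≠ 1 := fun h => hc1 (Subtype.ext (Subtype.ext h))
  set e := ((c : Y₀) : H) with he
  -- `z` normalises `Y₀`
  have hzY : ∀ w ∈ Y₀, z * w * z⁻¹ ∈ Y₀ := by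
    intro w hw
    induction hw using closure_induction with
    | mem w hw =>
      rcases hw with rfl | rfl
      · rw [hx.inv]; exact inv_mem hxY₀
      · rw [hx'.inv]; exact inv_mem hx'Y₀
    | one => simp
    | mul a b _ _ ha hb =>
      rw [show z * (a * b) * z⁻¹ = z * a * z⁻¹ * (z * b * z⁻¹) by group]; exact mul_mem ha hb
    | inv a _ ha => rw [show z * a⁻¹ * z⁻¹ = (z * a * z⁻¹)⁻¹ by group]; exact inv_mem ha
  have hzinv : z⁻¹ = z := inv_eq_of_mul_eq_one_right D.sq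
  have heY : e ∈ Y₀ := (c : Y₀).2
  set d := e⁻¹ * (z * e * z⁻¹) with hd
  have hdc : ∀ w ∈ Y₀, Commute d w := by
    intro w hw
    refine ((hcc w hw).inv_left).mul_left ?_
    have h := (hcc _ (hzY w hw)).map (MulAut.conj z).toMonoidHom
    have hw2 : z * (z * w * z⁻¹) * z⁻¹ = w := by
      rw [show z * (z * w * z⁻¹) * z⁻¹ = (z * z) * w * (z * z)⁻¹ by group, D.sq]; simp
    simp only [MulEquiv.coe_toMonoidHom, MulAut.conj_apply] at h
    rwa [hw2] at h
  have hdY : d ∈ Y₀ := mul_mem (inv_mem heY) (hzY e heY)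
  by_cases hd1 : d = 1
  · obtain ⟨n, hn⟩ := hY₀p (c : Y₀)
    refine hcne (D.eq_one_of_central hx hx1 hx' hx'1 (n := n) (congrArg Subtype.val hn) ?_
      (hcc x hxY₀) (hcc x' hx'Y₀) ?_)
    · rw [hd, inv_mul_eq_one] at hd1
      exact (mul_inv_eq_iff_eq_mul.mp hd1.symm).symm
    · intro q _ hqx hqx'
      have hle : Y₀ ≤ centralizer ({q} : Set H) := (closure_le _).mpr (by
        intro w hw
        rcases hw with rfl | rfl
        · exact mem_centralizer_singleton_iff.mpr hqx.eq.symm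
        · exact mem_centralizer_singleton_iff.mpr hqx'.eq.symm)
      exact mem_centralizer_singleton_iff.mp (hle heY)
  · obtain ⟨k, hk⟩ := IsPGroup.iff_orderOf.mp hY₀p ⟨d, hdY⟩
    rw [Subgroup.orderOf_mk] at hk
    have hk0 : k ≠ 0 := fun h => hd1 (orderOf_eq_one_iff.mp (by rw [hk, h, pow_zero]))
    have hdinv : z * d * z⁻¹ = d⁻¹ := by
      rw [hd, show z * (e⁻¹ * (z * e * z⁻¹)) * z⁻¹ = (z * e * z⁻¹)⁻¹ * ((z * z) * e * (z * z)⁻¹) by
        group, D.sq]
      group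
    set f := d ^ 3 ^ (k - 1) with hf
    have hfinv : IsInverted z 3 f := by
      refine ⟨?_, by rw [hf, ← conj_pow, hdinv, inv_pow]⟩
      rw [hf, ← pow_mul, ← pow_succ, show k - 1 + 1 = k by omega, ← hk, pow_orderOf_eq_one]
    have hf1 : f ≠ 1 := fun h => by
      have h1 := orderOf_dvd_of_pow_eq_one h
      rw [hk, Nat.pow_dvd_pow_iff_le_right (by norm_num)] at h1
      omega
    obtain ⟨a, -, ha⟩ := D.exists_pow_eq hfinv hf1 hx ((hdc x hxY₀).pow_left _)
    obtain ⟨b, -, hb⟩ := D.exists_pow_eq hfinv hf1 hx' ((hdc x' hx'Y₀).pow_left _)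
    exact hne (by rw [ha, hb]; exact (Commute.refl f).pow_pow a b)

omit [Fact (Nat.Prime 3)] in
/-- **The involution `z = i ^ 2` centralises every odd subgroup normalised by `i`.** -/
theorem centralizes (D : Setting Q z) {i : H} (hi : i * i = z) {X : Subgroup H}
    (hX : Odd (Nat.card X)) (hiX : i ∈ normalizer (X : Set H)) : ∀ x ∈ X, Commute z x := by
  haveI : Fact (Nat.Prime 3) := ⟨Nat.prime_three⟩
  have hi4 : i ^ 4 = 1 := by
    rw [show i ^ 4 = (i ^ 2) ^ 2 by rw [← pow_mul], pow_two, pow_two, hi, D.sq]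
  have hcop : (Nat.card (zpowers i)).Coprime (Nat.card X) := by
    rw [Nat.card_zpowers]
    exact Nat.Coprime.coprime_dvd_left (orderOf_dvd_of_pow_eq_one hi4)
      ((Nat.coprime_two_left.mpr hX).pow_left 2)
  set C' := (centralizer ({z} : Set H)).subgroupOf X with hC'
  suffices h : C' = ⊤ by
    intro x hx
    have : (⟨x, hx⟩ : X) ∈ C' := h ▸ mem_top _
    exact (mem_centralizer_singleton_iff.mp this).symm
  by_contra hne
  obtain ⟨p, hp, hpd⟩ := Nat.exists_prime_and_dvd (fun h => hne (index_eq_one.mp h) :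
    C'.index ≠ 1)
  haveI := Fact.mk hp
  have hp2 : p ≠ 2 := fun h => by
    have := hpd.trans (index_dvd_card C')
    rw [h] at this
    exact (Nat.not_even_iff_odd.mpr hX) (even_iff_two_dvd.mpr this)
  haveI hsol : Group.IsSolvable (zpowers i) := Group.isSolvable_of_comm fun a b => mul_comm' a b
  obtain ⟨P, hP⟩ := Coprime.exists_invariant_sylow (zpowers i) X (zpowers_le.mpr hiX) hcop
    (Or.inl hsol) p
  refine P.not_dvd_index (hpd.trans (index_dvd_of_le ?_))
  set Y := (P : Subgroup X).map X.subtype with hYdef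
  have hYp : IsPGroup p Y := P.isPGroup'.map _
  have hiY : ∀ y ∈ Y, i * y * i⁻¹ ∈ Y := fun y hy =>
    (mem_normalizer_iff.mp (hP (mem_zpowers i)) y).mp hy
  have hzY : ∀ y ∈ Y, z * y * z⁻¹ ∈ Y := fun y hy => by
    rw [← hi, show i * i * y * (i * i)⁻¹ = i * (i * y * i⁻¹) * i⁻¹ by group]
    exact hiY _ (hiY y hy)
  suffices hall : ∀ y ∈ Y, Commute z y by
    intro y hy
    exact mem_centralizer_singleton_iff.mpr (hall _ ⟨y, hy, rfl⟩).eq.symm
  intro y hy
  by_contra hyz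
  set d := y⁻¹ * (z * y * z⁻¹) with hd
  have hdY : d ∈ Y := mul_mem (inv_mem hy) (hzY y hy)
  have hd1 : d ≠ 1 := fun h => hyz (by
    rw [hd, inv_mul_eq_one] at h
    exact mul_inv_eq_iff_eq_mul.mp h.symm)
  have hdinv : z * d * z⁻¹ = d⁻¹ := by
    rw [hd, show z * (y⁻¹ * (z * y * z⁻¹)) * z⁻¹ = (z * y * z⁻¹)⁻¹ * ((z * z) * y * (z * z)⁻¹) by
      group, D.sq]
    group
  obtain ⟨k, hk⟩ := IsPGroup.iff_orderOf.mp hYp ⟨d, hdY⟩
  rw [Subgroup.orderOf_mk] at hk
  have hk0 : k ≠ 0 := fun h => hd1 (orderOf_eq_one_iff.mp (by rw [hk, h, pow_zero]))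
  set x := d ^ p ^ (k - 1) with hxd
  have hxinv : IsInverted z p x := by
    refine ⟨?_, by rw [hxd, ← conj_pow, hdinv, inv_pow]⟩
    rw [hxd, ← pow_mul, ← pow_succ, show k - 1 + 1 = k by omega, ← hk, pow_orderOf_eq_one]
  have hx1 : x ≠ 1 := fun h => by
    have h1 := orderOf_dvd_of_pow_eq_one h
    rw [hk, Nat.pow_dvd_pow_iff_le_right hp.one_lt] at h1
    omega
  obtain rfl := D.eq_three hp2 hxinv hx1
  set x' := i * x * i⁻¹ with hx'
  have hzi : i * z * i⁻¹ = z := by rw [← hi]; group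
  have hx'inv : IsInverted z 3 x' := by
    refine ⟨by rw [hx', conj_pow, hxinv.pow]; group, ?_⟩
    calc z * x' * z⁻¹ = (i * z * i⁻¹) * (i * x * i⁻¹) * (i * z * i⁻¹)⁻¹ := by rw [hzi, hx']
      _ = i * (z * x * z⁻¹) * i⁻¹ := by group
      _ = x'⁻¹ := by rw [hxinv.inv, hx']; group
  have hx'1 : x' ≠ 1 := fun h => hx1 (conj_eq_one_iff.mp h)
  have hxY : x ∈ Y := pow_mem hdY _
  obtain ⟨m, hm, hxm⟩ := D.exists_pow_eq hxinv hx1 hx'inv
    (D.commute_of_isPGroup hYp hxY (hiY x hxY) hxinv hx1 hx'inv hx'1)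
  have hxx : x ^ (m * m) = x⁻¹ := by
    calc x ^ (m * m) = (i * x * i⁻¹) ^ m := by rw [← hx', hxm, pow_mul]
      _ = i * x ^ m * i⁻¹ := conj_pow
      _ = i * (i * x * i⁻¹) * i⁻¹ := by rw [← hx', hxm]
      _ = z * x * z⁻¹ := by rw [← hi]; group
      _ = x⁻¹ := hxinv.inv
  have hxo : orderOf x = 3 := orderOf_eq_prime hxinv.pow hx1
  have h3 : 3 ∣ m * m + 1 := by
    rw [← hxo]
    exact orderOf_dvd_of_pow_eq_one (by rw [pow_succ, hxx, inv_mul_cancel])
  interval_cases m <;> norm_num at h3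

end Setting

end Cfsg.Agent.Dichotomy43
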