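import Cfsg.Agent.Dichotomy43.Setup
import Cfsg.Agent.Dichotomy43.Transvection
import Cfsg.Agent.Lib.Involution.IndexTwo
import Mathlib.GroupTheory.Abelianization.Defs

/-!
# Four groups through an involution outside `C(U)` have centralizers of 2-rank at least three
-/

set_option autoImplicit false
set_option linter.style.haveILetI false

namespace Cfsg.Agent.Dichotomy43

open Subgroup SigDown91 BC85.Balance
open scoped commutatorElement

universe u

/-- A 2-group with an involution having a centralizer of order four has no subgroup `2^3`. -/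
theorem false_of_small_centralizer {H : Type u} [Group H] [Finite H] (hH : IsPGroup 2 H) {z t : H}
    (hz : z * z = 1) (ht : t * t = 1) (hzt : Commute z t)
    (hC : ∀ x, Commute x t → x = 1 ∨ x = z ∨ x = t ∨ x = z * t) {T : Subgroup H}
    (hT : T.index = 2) (htT : t ∉ T) (hztT : z * t ∉ T) {E : Subgroup H}
    (hEc : ∀ a ∈ E, ∀ b ∈ E, Commute a b) (hE2 : ∀ a ∈ E, a * a = 1) (hE8 : 8 ≤ Nat.card E) :
    False := by
  classical
  haveI : Fact (Nat.Prime 2) := ⟨Nat.prime_two⟩
  haveI := Fintype.ofFinite H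
  set D := commutator H with hD
  have hDle : ∀ K : Subgroup H, (∀ a b : H, a * b * a⁻¹ * b⁻¹ ∈ K) → D ≤ K := fun K h => by
    rw [hD, commutator_def, commutator_le]
    exact fun a _ b _ => h a b
  have hDT : D ≤ T := hDle T fun a b => by
    simp [Subgroup.mul_mem_iff_of_index_two hT]
    tauto
  have hmem : ∀ a b : H, a * b * a⁻¹ * b⁻¹ ∈ D := fun a b =>
    commutator_mem_commutator (mem_top a) (mem_top b)
  have htinv : t⁻¹ = t := inv_eq_of_mul_eq_one_right ht
  -- the map `x ↦ [x, t]`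
  let f : H → H := fun x => x * t * x⁻¹ * t⁻¹
  set I := Finset.univ.image f with hI
  have hIle : Nat.card H ≤ 4 * I.card := by
    rw [Nat.card_eq_fintype_card, ← Finset.card_univ]
    refine Finset.card_le_mul_card_image _ 4 fun b hb => ?_
    obtain ⟨y, -, rfl⟩ := Finset.mem_image.mp hb
    refine (Finset.card_le_card (t := {y, y * z, y * t, y * (z * t)}) fun x hx => ?_).trans
      Finset.card_le_four
    rw [Finset.mem_filter] at hx
    have h1 : Commute (y⁻¹ * x) t := by
      have h := mul_right_cancel hx.2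
      calc y⁻¹ * x * t = y⁻¹ * (x * t * x⁻¹) * x := by group
        _ = t * (y⁻¹ * x) := by rw [h]; group
    simp only [Finset.mem_insert, Finset.mem_singleton]
    rcases hC _ h1 with h | h | h | h
    · left; exact (inv_mul_eq_one.mp h).symm
    · right; left; rw [← h, mul_inv_cancel_left]
    · right; right; left; rw [← h, mul_inv_cancel_left]
    · right; right; right; rw [← h, mul_inv_cancel_left]
  have hIsub : ∀ b ∈ I, b ∈ D := fun b hb => by
    obtain ⟨y, -, rfl⟩ := Finset.mem_image.mp hb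
    exact hmem y t
  have hIcard : I.card ≤ Nat.card D := by
    rw [← Nat.card_eq_finsetCard]
    exact Nat.card_le_card_of_injective (fun b : I => (⟨b.1, hIsub b.1 b.2⟩ : D))
      fun a b h => Subtype.ext (congrArg (fun w : D => (w : H)) h)
  -- the commutator subgroup has index at least four
  have h4 : 4 ≤ D.index := by
    obtain ⟨k, hk⟩ := IsPGroup.index hH D
    by_contra hlt
    have hk1 : k ≤ 1 := by
      by_contra h
      exact hlt (hk ▸ le_trans (by norm_num)
        (Nat.pow_le_pow_right (by norm_num : 1 ≤ 2) (show 2 ≤ k by omega)))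
    have hd : T.index ∣ D.index := index_dvd_of_le hDT
    have hDT' : D = T := by
      refine Subgroup.eq_of_le_of_card_ge hDT ?_
      have hDi : D.index = 2 := by
        rw [hT, hk] at hd
        interval_cases k
        · norm_num at hd
        · simpa using hk
      have h1 := D.card_mul_index
      have h2 := T.card_mul_index
      rw [hDi] at h1
      rw [hT] at h2
      omega
    have hne : zpowers t ≠ ⊤ := fun h => by
      have h1 : Nat.card (zpowers t) = Nat.card H := by rw [h, card_top]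
      have h2 : orderOf t ≤ 2 := Nat.le_of_dvd (by norm_num)
        (orderOf_dvd_of_pow_eq_one (by rw [pow_two, ht]))
      rw [Nat.card_zpowers] at h1
      have h3 := Subgroup.card_le_card_group E
      omega
    obtain ⟨M, hM, hle⟩ := (eq_top_or_exists_le_coatom (zpowers t)).resolve_left hne
    haveI : Group.IsNilpotent H := hH.isNilpotent
    haveI hMn : M.Normal := Group.normalizerCondition_of_isNilpotent.normal_of_coatom M hM
    have hDM : D ≤ M := hDle M fun a b => by
      by_cases ha : a ∈ M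
      · rw [show a * b * a⁻¹ * b⁻¹ = a * (b * a⁻¹ * b⁻¹) by group]
        exact mul_mem ha (hMn.conj_mem _ (inv_mem ha) b)
      -- modulo `M` everything is a power of `a`
      have htop : M ⊔ zpowers a = ⊤ := hM.2 _ (lt_of_le_of_ne le_sup_left fun h => ha
        (h ▸ mem_sup_right (mem_zpowers a)))
      have hb : b ∈ M ⊔ zpowers a := htop ▸ mem_top b
      rw [mem_sup_of_normal_left] at hb
      obtain ⟨m, hm, p, ⟨j, rfl⟩, rfl⟩ := hb
      rw [show a * (m * a ^ j) * a⁻¹ * (m * a ^ j)⁻¹ =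
        a * m * a⁻¹ * (a * a ^ j * a⁻¹ * (a ^ j)⁻¹) * m⁻¹ by group,
        show a * a ^ j * a⁻¹ * (a ^ j)⁻¹ = 1 by group, mul_one]
      exact mul_mem (hMn.conj_mem _ hm a) (inv_mem hm)
    apply hM.1
    rw [eq_top_iff']
    intro x
    have htM : t ∈ M := hle (mem_zpowers t)
    by_cases hx : x ∈ T
    · exact hDM (hDT'.symm ▸ hx)
    · have h1 : x * t ∈ T := (Subgroup.mul_mem_iff_of_index_two hT).mpr (iff_of_false hx htT)
      have h2 : x * t ∈ M := hDM (hDT'.symm ▸ h1)
      exact (mul_mem_cancel_right htM).mp h2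
  have hcard := D.card_mul_index
  have hsurj : ∀ c ∈ D, ∃ y, c = y * t * y⁻¹ * t⁻¹ := by
    have heq : I.card = Nat.card D := by
      nlinarith [Nat.mul_le_mul_left (Nat.card D) h4, hIle, hIcard]
    intro c hc
    have hI' : I = Finset.univ.filter (fun b => b ∈ D) := by
      refine Finset.eq_of_subset_of_card_le (fun b hb => Finset.mem_filter.mpr
        ⟨Finset.mem_univ _, hIsub b hb⟩) ?_
      rw [heq, ← Nat.card_eq_finsetCard]
      exact Nat.card_le_card_of_injective (fun b => (⟨b.1, (Finset.mem_filter.mp b.2).2⟩ : D))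
        fun a b h => Subtype.ext (congrArg (fun w : D => (w : H)) h)
    have : c ∈ I := hI' ▸ Finset.mem_filter.mpr ⟨Finset.mem_univ _, hc⟩
    obtain ⟨y, -, hy⟩ := Finset.mem_image.mp this
    exact ⟨y, hy.symm⟩
  have hindex : D.index ≤ 4 := by
    refine Nat.le_of_mul_le_mul_left ?_ (Nat.card_pos (α := D))
    rw [hcard]
    nlinarith
  have hinv : ∀ c ∈ D, t * c * t = c⁻¹ := by
    intro c hc
    obtain ⟨y, rfl⟩ := hsurj c hc
    calc t * (y * t * y⁻¹ * t⁻¹) * t = t * (y * t * y⁻¹) := by group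
      _ = (y * t⁻¹ * y⁻¹ * t⁻¹)⁻¹ := by group
      _ = (y * t * y⁻¹ * t⁻¹)⁻¹ := by rw [htinv]
  have hab : ∀ c ∈ D, ∀ d ∈ D, c * d = d * c := by
    intro c hc d hd
    have h := hinv _ (mul_mem hc hd)
    rw [mul_inv_rev, ← hinv c hc, ← hinv d hd,
      show t * d * t * (t * c * t) = t * d * (t * t) * c * t by group, ht, mul_one] at h
    have h' := congrArg (fun w => t * w * t) h
    rwa [show t * (t * (c * d) * t) * t = (t * t) * (c * d) * (t * t) by group,
      show t * (t * d * c * t) * t = (t * t) * (d * c) * (t * t) by group, ht, one_mul, mul_one,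
      one_mul, mul_one] at h'
  have hinvol : ∀ c ∈ D, c * c = 1 → c = 1 ∨ c = z := by
    intro c hc hc2
    have h1 : Commute c t := by
      have h := hinv c hc
      rw [inv_eq_of_mul_eq_one_right hc2] at h
      calc c * t = t * c * t * t := by rw [h]
        _ = t * c := by rw [mul_assoc, ht, mul_one]
    rcases hC c h1 with h | h | h | h
    · exact Or.inl h
    · exact Or.inr h
    · exact absurd (h ▸ hDT hc) htT
    · exact absurd (h ▸ hDT hc) hztT
  -- the squares of the commutator subgroup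
  let sqr : D →* H :=
    { toFun := fun c => (c : H) * c
      map_one' := by simp
      map_mul' := fun a b => by
        show (a : H) * b * (a * b) = a * a * (b * b)
        rw [mul_assoc, ← mul_assoc (b : H) a b, hab b b.2 a a.2]
        group }
  set N := sqr.range with hN
  have hND : N ≤ D := by rintro _ ⟨c, rfl⟩; exact mul_mem c.2 c.2
  haveI hNn : N.Normal := ⟨by
    rintro _ ⟨c, rfl⟩ g
    exact ⟨⟨g * c * g⁻¹, (inferInstance : D.Normal).conj_mem _ c.2 g⟩, by
      show g * c * g⁻¹ * (g * c * g⁻¹) = g * ((c : H) * c) * g⁻¹; group⟩⟩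
  have hcardN : Nat.card D = Nat.card sqr.ker * Nat.card N := by
    rw [hN, ← Subgroup.index_ker, Subgroup.card_mul_index]
  have hker : Nat.card sqr.ker ≤ 2 := by
    refine (Nat.card_le_card_of_injective (fun c : sqr.ker => (⟨((c : D) : H), ?_⟩ : ({1, z} : Finset H)))
      fun a b h => Subtype.ext (Subtype.ext (congrArg Subtype.val h :))).trans ?_
    · have h1 : ((c : D) : H) * (c : D) = 1 := c.2
      simpa using hinvol _ (c : D).2 h1
    · rw [Nat.card_eq_finsetCard]; exact Finset.card_le_two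
  have hrel : N.relIndex D ≤ 2 := by
    have h := Subgroup.card_mul_index (N.subgroupOf D)
    rw [Nat.card_congr (Subgroup.subgroupOfEquivOfLe hND).toEquiv, hcardN] at h
    refine le_trans (le_of_eq ?_) hker
    refine Nat.eq_of_mul_eq_mul_left (Nat.card_pos (α := N)) ?_
    rw [show N.relIndex D = (N.subgroupOf D).index from rfl, h, mul_comm]
  -- the quotient by the squares is commutative
  set π := QuotientGroup.mk' N with hπ
  have hcent : ∀ c ∈ D, ∀ h : H, Commute (π h) (π c) := by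
    intro c hc h
    have hconj : π (h * c * h⁻¹) = π c := by
      by_cases hcN : c ∈ N
      · rw [hπ, QuotientGroup.mk'_apply, QuotientGroup.mk'_apply, (QuotientGroup.eq_one_iff c).mpr hcN,
          (QuotientGroup.eq_one_iff _).mpr (hNn.conj_mem c hcN h)]
      · refine QuotientGroup.eq.mpr (mul_mem_of_relIndex_le_two hrel
          (inv_mem ((inferInstance : D.Normal).conj_mem c hc h)) hc (fun h' => hcN ?_) hcN)
        have h'' := hNn.conj_mem' _ (inv_mem_iff.mp h') h
        simpa [mul_assoc] using h''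
    rw [map_mul, map_mul, map_inv] at hconj
    exact mul_inv_eq_iff_eq_mul.mp hconj
  have hdec : ∀ h : H, ∃ c ∈ D, ∃ a ∈ E, h = c * a := by
    set g := (QuotientGroup.mk' D).comp E.subtype with hg
    have hgk : Nat.card g.ker ≤ 2 := by
      refine (Nat.card_le_card_of_injective (fun c : g.ker => (⟨((c : E) : H), ?_⟩ : ({1, z} : Finset H)))
        fun a b h => Subtype.ext (Subtype.ext (congrArg Subtype.val h :))).trans ?_
      · have h1 : ((c : E) : H) ∈ D := (QuotientGroup.eq_one_iff _).mp c.2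
        simpa using hinvol _ h1 (hE2 _ (c : E).2)
      · rw [Nat.card_eq_finsetCard]; exact Finset.card_le_two
    have htop : g.range = ⊤ := by
      refine Subgroup.eq_top_of_le_card _ ?_
      have h1 : Nat.card E = Nat.card g.ker * Nat.card g.range := by
        rw [← Subgroup.index_ker, Subgroup.card_mul_index]
      rw [← D.index_eq_card]
      nlinarith
    intro h
    obtain ⟨a, ha⟩ : QuotientGroup.mk' D h ∈ g.range := htop ▸ mem_top _
    refine ⟨h * (a : H)⁻¹, ?_, a, a.2, by group⟩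
    rw [← QuotientGroup.eq_one_iff]
    show QuotientGroup.mk' D (h * (a : H)⁻¹) = 1
    rw [map_mul, map_inv, ← ha]
    exact mul_inv_cancel _
  have hDN : D ≤ N := hDle N fun a b => by
    rw [← QuotientGroup.eq_one_iff]
    show π (a * b * a⁻¹ * b⁻¹) = 1
    obtain ⟨c, hc, p, hp, rfl⟩ := hdec a
    obtain ⟨d, hd, q, hq, rfl⟩ := hdec b
    have h1 : Commute (π (c * p)) (π (d * q)) := by
      rw [map_mul π d q]
      refine (hcent d hd _).mul_right ?_
      rw [map_mul π c p]
      exact ((hcent c hc q).symm).mul_left ((hEc p hp q hq).map π)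
    simp only [map_mul, map_inv] at h1 ⊢
    rw [h1.eq]
    group
  have hker1 : Nat.card sqr.ker = 1 := by
    have h := Subgroup.card_le_of_le hDN
    have hp := Nat.card_pos (α := sqr.ker)
    have hp2 := Nat.card_pos (α := N)
    nlinarith
  have hDbot : D = ⊥ := by
    by_contra hne
    rcases (hH.to_subgroup D).card_eq_or_dvd with h | h
    · exact hne (Subgroup.card_eq_one.mp h)
    obtain ⟨c, hc⟩ := exists_prime_orderOf_dvd_card' (G := D) 2 h
    have hck : c ∈ sqr.ker := by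
      show (c : H) * c = 1
      have := congrArg (fun w : D => (w : H)) (pow_orderOf_eq_one c)
      rwa [hc, pow_two] at this
    have hsub := (Nat.card_eq_one_iff_unique.mp hker1).1
    have : c = 1 := congrArg Subtype.val (hsub.elim ⟨c, hck⟩ 1)
    rw [this, orderOf_one] at hc
    omega
  rw [hDbot, card_bot, one_mul] at hcard
  rw [hDbot] at hindex
  have := Subgroup.card_le_card_group E
  omega

variable {G : Type u} [Group G] [Finite G]

/-- An involution `t` of `S` for which `⟨z, t⟩` is contained in no `2^3` of `S`. -/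
structure Bad (S : Sylow 2 G) (z e t : G) : Prop where
  mem : t ∈ (S : Subgroup G)
  sq : t ^ 2 = 1
  not_comm : ¬ Commute t e
  only : ∀ f ∈ (S : Subgroup G), f ^ 2 = 1 → Commute f t → f ∈ four z t

namespace Conf

variable {S : Sylow 2 G} {z e : G}

theorem big_four (K : Conf S z e) {t : G} (ht : t ∈ (S : Subgroup G)) (ht2 : t ^ 2 = 1)
    (ht1 : t ≠ 1) (htz : t ≠ z) : IsBig (four z t) :=
  isBig_four K.z_sq ht2 K.z_ne ht1 htz.symm (K.z_central t ht)

theorem bad_ne (K : Conf S z e) {t : G} (B : Bad S z e t) : t ≠ 1 ∧ t ≠ z :=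
  ⟨fun h => B.not_comm (h ▸ Commute.one_left e), fun h => B.not_comm (h ▸ K.z_comm_e)⟩

/-- An involution which is not bad is with `z` in a `2^3` of `S`. -/
theorem exists_eight_of_not_bad (K : Conf S z e) {t : G} (ht : t ∈ (S : Subgroup G))
    (ht2 : t ^ 2 = 1) (hB : ¬ Bad S z e t) :
    ∃ E : Subgroup G, Cfsg.IsElementaryAbelian 2 E ∧ 8 ≤ Nat.card E ∧ E ≤ (S : Subgroup G) ∧
      z ∈ E ∧ t ∈ E := by
  by_cases hte : Commute t e
  · obtain ⟨E, hE, h8, hES, hUE, htE⟩ := K.exists_eight_of_commute ht ht2 hte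
    exact ⟨E, hE, h8, hES, hUE (left_mem_four z e), htE⟩
  have hne : t ≠ 1 ∧ t ≠ z :=
    ⟨fun h => hte (h ▸ Commute.one_left e), fun h => hte (h ▸ K.z_comm_e)⟩
  obtain ⟨f, hf, hf2, hft, hfn⟩ : ∃ f ∈ (S : Subgroup G), f ^ 2 = 1 ∧ Commute f t ∧ f ∉ four z t := by
    by_contra hno
    push Not at hno
    exact hB ⟨ht, ht2, hte, fun f hf hf2 hft => hno f hf hf2 hft⟩
  obtain ⟨E, hE, h8, hVE, -, hle⟩ := eight_of_insert (K.big_four ht ht2 hne.1 hne.2) hf2 hfn
    (commute_four (K.z_central f hf).symm hft)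
  exact ⟨E, hE, h8, hle _ (four_le K.z_mem ht) hf, hVE (left_mem_four z t), hVE (right_mem_four z t)⟩

/-- Either `gen X = W`, or `X` comes from a bad involution. -/
theorem classify (K : Conf S z e) {X : Subgroup G} (hX : IsBig X) (hXS : X ≤ (S : Subgroup G)) :
    gen X = wgen z e ∨ ∃ t ∈ X, Bad S z e t ∧ gen X = gen (four z t) := by
  by_cases hall : ∀ x ∈ X, Commute x e
  · exact Or.inl (K.gen_eq_of_commute hX hXS hall)
  push Not at hall
  obtain ⟨t, htX, hte⟩ := hall
  have ht : t ∈ (S : Subgroup G) := hXS htX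
  have ht2 := hX.1.2 t htX
  have hne : t ≠ 1 ∧ t ≠ z :=
    ⟨fun h => hte (h ▸ Commute.one_left e), fun h => hte (h ▸ K.z_comm_e)⟩
  have hb := K.big_four ht ht2 hne.1 hne.2
  have hc : ∀ x ∈ X, ∀ v ∈ four z t, Commute x v := fun x hx =>
    commute_four (K.z_central x (hXS hx)).symm (isBig_commute hX hx htX)
  have heq : gen X = gen (four z t) :=
    le_antisymm (gen_le_gen K.con hX.1 hb hc)
      (gen_le_gen K.con hb.1 hX fun v hv x hx => (hc x hx v hv).symm)
  by_cases hB : Bad S z e t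
  · exact Or.inr ⟨t, htX, hB, heq⟩
  obtain ⟨E, hE, h8, hES, hzE, htE⟩ := K.exists_eight_of_not_bad ht ht2 hB
  refine Or.inl (heq.trans ?_)
  rw [← K.gen_eight hE h8 hES]
  exact (gen_eq_of_le K.con ⟨hE, le_trans (by norm_num) h8⟩ hb (four_le hzE htE)).symm

/-- The centralizer of a bad four group contains a `2^3`. -/
theorem bad_eight (K : Conf S z e) (hno2 : ∀ N : Subgroup G, N.Normal → N.index ≠ 2) {t₀ : G}
    (B₀ : Bad S z e t₀) : ∃ F : Subgroup G, Cfsg.IsElementaryAbelian 2 F ∧ 8 ≤ Nat.card F ∧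
      ∀ f ∈ F, Commute z f ∧ Commute t₀ f := by
  classical
  haveI : Fact (Nat.Prime 2) := ⟨Nat.prime_two⟩
  by_contra hno₀
  let P : G → Prop := fun t => ∃ F : Subgroup G, Cfsg.IsElementaryAbelian 2 F ∧ 8 ≤ Nat.card F ∧
    ∀ f ∈ F, Commute z f ∧ Commute t f
  obtain ⟨t, ⟨B, hno⟩, hmax⟩ := Set.exists_max_image {t | Bad S z e t ∧ ¬ P t}
    (fun t => Nat.card ((S : Subgroup G) ⊓ centralizer ({t} : Set G) : Subgroup G)) (Set.toFinite _)
    ⟨t₀, B₀, hno₀⟩
  obtain ⟨ht1, htz⟩ := K.bad_ne B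
  have ht := B.mem
  set R := (S : Subgroup G) ⊓ centralizer ({t} : Set G) with hR
  have hRmem : ∀ {x}, x ∈ R ↔ x ∈ (S : Subgroup G) ∧ Commute x t := fun {x} =>
    ⟨fun h => ⟨h.1, mem_centralizer_singleton_iff.mp h.2⟩,
      fun h => ⟨h.1, mem_centralizer_singleton_iff.mpr h.2.eq⟩⟩
  have hzR : z ∈ R := hRmem.mpr ⟨K.z_mem, K.z_central t ht⟩
  have htR : t ∈ R := hRmem.mpr ⟨ht, Commute.refl t⟩
  have hSz : (S : Subgroup G) ≤ centralizer ({z} : Set G) := fun s hs =>
    mem_centralizer_singleton_iff.mpr (K.z_central s hs).eq.symm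
  -- transport of `P`
  have hPconj : ∀ (c : G) (E : Subgroup G), Cfsg.IsElementaryAbelian 2 E → 8 ≤ Nat.card E →
      (∀ f ∈ E, Commute (c * z * c⁻¹) f ∧ Commute (c * t * c⁻¹) f) → P t := by
    intro c E hE h8 hc
    refine ⟨E.map (MulAut.conj c⁻¹).toMonoidHom, elementary_map_conj _ hE,
      by rwa [card_map_conj], ?_⟩
    rintro _ ⟨f, hf, rfl⟩
    obtain ⟨h1, h2⟩ := hc f hf
    constructor
    · simpa [mul_assoc] using h1.map (MulAut.conj c⁻¹).toMonoidHom
    · simpa [mul_assoc] using h2.map (MulAut.conj c⁻¹).toMonoidHom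
  -- `R` is a maximal 2-subgroup of `C(z) ⊓ C(t)`
  have hRmax : ∀ Q : Subgroup G, IsPGroup 2 Q → R ≤ Q →
      Q ≤ centralizer ({z} : Set G) ⊓ centralizer ({t} : Set G) → Q = R := by
    intro Q hQ hRQ hQC
    obtain ⟨T', hT', hST', hT'C, hcj⟩ := exists_sylow_within hSz S.isPGroup'
    have hTS : T' = (S : Subgroup G) := S.3 hT' hST'
    obtain ⟨c, hc, hle⟩ := hcj Q hQ (hQC.trans inf_le_left)
    rw [hTS] at hle
    have hcz : c * z * c⁻¹ = z :=
      mul_inv_eq_iff_eq_mul.mpr (mem_centralizer_singleton_iff.mp hc)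
    set t' := c * t * c⁻¹ with ht'
    have ht'S : t' ∈ (S : Subgroup G) := hle ⟨t, hRQ htR, rfl⟩
    have ht'2 : t' ^ 2 = 1 := by rw [ht', conj_pow, B.sq]; group
    have hnP : ¬ P t' := fun ⟨F, hF, h8, hf⟩ => hno (hPconj c F hF h8 (by rwa [hcz]))
    have hB' : Bad S z e t' := by
      by_contra hB'
      obtain ⟨E, hE, h8, -, hzE, htE⟩ := K.exists_eight_of_not_bad ht'S ht'2 hB'
      exact hnP ⟨E, hE, h8, fun f hf =>
        ⟨commute_of_elementary hE hzE hf, commute_of_elementary hE htE hf⟩⟩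
    have h1 := hmax t' ⟨hB', hnP⟩
    refine (Subgroup.eq_of_le_of_card_ge hRQ ?_).symm
    refine le_trans ?_ h1
    rw [← card_map_conj c Q]
    refine Subgroup.card_le_of_le fun x hx => mem_inf.mpr ⟨hle hx, ?_⟩
    obtain ⟨q, hq, rfl⟩ := hx
    have h2 : Commute q t := mem_centralizer_singleton_iff.mp (hQC hq).2
    exact mem_centralizer_singleton_iff.mpr (h2.map (MulAut.conj c).toMonoidHom).eq
  -- Thompson transfer gives a `2^3` in `C(t)`
  set Tu := (S : Subgroup G) ⊓ centralizer ({e} : Set G) with hTu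
  have hTumem : ∀ {x}, x ∈ Tu ↔ x ∈ (S : Subgroup G) ∧ Commute x e := fun {x} =>
    ⟨fun h => ⟨h.1, mem_centralizer_singleton_iff.mp h.2⟩,
      fun h => ⟨h.1, mem_centralizer_singleton_iff.mpr h.2.eq⟩⟩
  have hTui : Tu.relIndex (S : Subgroup G) = 2 := by
    refine Subgroup.index_eq_two_iff'.mpr ⟨⟨t, ht⟩, fun b => ?_⟩
    by_cases hb : b ∈ Tu.subgroupOf (S : Subgroup G)
    · exact Or.inr ⟨hb, fun h => B.not_comm (hTumem.mp ((mul_mem_cancel_right hb).mp h)).2⟩
    · exact Or.inl ⟨hTumem.mpr ⟨mul_mem ht b.2, K.commute_mul ht b.2 B.not_comm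
        fun h => hb (hTumem.mpr ⟨b.2, h⟩)⟩, hb⟩
  obtain ⟨g, hg⟩ : ∃ g : G, g * t * g⁻¹ ∈ Tu := by
    by_contra hne
    push Not at hne
    obtain ⟨M, hMn, hMi, -⟩ := Involution.thompson_transfer S Tu inf_le_left hTui
      (by rw [← pow_two]; exact B.sq) hne
    exact hno2 M hMn hMi
  obtain ⟨E₀, hE₀, h8₀, -, -, htE₀⟩ := K.exists_eight_of_commute (hTumem.mp hg).1
    (by rw [conj_pow, B.sq]; group) (hTumem.mp hg).2
  set C := centralizer ({t} : Set G) with hCdef
  have hE₁C : E₀.map (MulAut.conj g⁻¹).toMonoidHom ≤ C := by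
    rintro _ ⟨f, hf, rfl⟩
    refine mem_centralizer_singleton_iff.mpr ?_
    have h := (commute_of_elementary hE₀ hf htE₀).map (MulAut.conj g⁻¹).toMonoidHom
    simpa [Commute, SemiconjBy, mul_assoc] using h
  obtain ⟨T₁, hT₁, hRT₁, hT₁C, hcj₁⟩ := exists_sylow_within (C := C) (inf_le_right : R ≤ C)
    (S.isPGroup'.to_le inf_le_left)
  obtain ⟨c₁, hc₁, hle₁⟩ := hcj₁ _ ((Signal38.isPGroup_of_elementary (p := 2) hE₀).map _) hE₁C
  set E₁ := (E₀.map (MulAut.conj g⁻¹).toMonoidHom).map (MulAut.conj c₁).toMonoidHom with hE₁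
  have hT₁t : ∀ {x}, x ∈ T₁ → Commute x t := fun hx => mem_centralizer_singleton_iff.mp (hT₁C hx)
  have hzT₁ : ¬ ∀ x ∈ T₁, Commute z x := fun h => hno ⟨E₁, elementary_map_conj _
    (elementary_map_conj _ hE₀), by rwa [card_map_conj, card_map_conj],
    fun f hf => ⟨h f (hle₁ hf), (hT₁t (hle₁ hf)).symm⟩⟩
  have hzt : Commute z t := K.z_central t ht
  have hRinv : ∀ x ∈ R, x ^ 2 = 1 → x = 1 ∨ x = z ∨ x = t ∨ x = z * t := fun x hx hx2 =>
    eq_of_mem_four K.z_sq B.sq hzt (B.only x (hRmem.mp hx).1 hx2 (hRmem.mp hx).2)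
  have hR' : ∀ x ∈ T₁, Commute x z → x ∈ R := by
    intro x hx hxz
    have h := hRmax (T₁ ⊓ centralizer ({z} : Set G)) (hT₁.to_le inf_le_left)
      (le_inf hRT₁ (inf_le_left.trans hSz))
      (le_inf inf_le_right (inf_le_left.trans hT₁C))
    exact h ▸ mem_inf.mpr ⟨hx, mem_centralizer_singleton_iff.mpr hxz.eq⟩
  have hcenT₁ : ∀ x ∈ T₁, x ^ 2 = 1 → (∀ y ∈ T₁, Commute x y) → x = 1 ∨ x = t := by
    intro x hx hx2 hxc
    rcases hRinv x (hR' x hx (hxc z (hRT₁ hzR))) hx2 with h | h | h | h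
    · exact Or.inl h
    · exact absurd (h ▸ hxc) hzT₁
    · exact Or.inr h
    · refine absurd (fun y hy => ?_) hzT₁
      have h1 := (hxc y hy).mul_left ((hT₁t hy).symm)
      rwa [h, mul_assoc, ← pow_two, B.sq, mul_one] at h1
  -- `T₁` is a Sylow subgroup of `G`
  obtain ⟨P₁, hP₁⟩ := hT₁.exists_le_sylow
  have hT₁P : T₁ = (P₁ : Subgroup G) := by
    by_contra hne
    haveI : Group.IsNilpotent ↥(P₁ : Subgroup G) := P₁.isPGroup'.isNilpotent
    have hlt : T₁.subgroupOf (P₁ : Subgroup G) < ⊤ := lt_top_iff_ne_top.mpr fun h =>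
      hne (le_antisymm hP₁ (subgroupOf_eq_top.mp h))
    obtain ⟨⟨a, haP⟩, haN, haT⟩ :=
      SetLike.exists_of_lt (Group.normalizerCondition_of_isNilpotent _ hlt)
    have hconj : ∀ x ∈ T₁, a⁻¹ * x * a ∈ T₁ := fun x hx =>
      (mem_normalizer_iff''.mp haN ⟨x, hP₁ hx⟩).mp hx
    have hconj' : ∀ x ∈ T₁, a * x * a⁻¹ ∈ T₁ := fun x hx =>
      (mem_normalizer_iff.mp haN ⟨x, hP₁ hx⟩).mp hx
    rcases hcenT₁ (a * t * a⁻¹) (hconj' t (hRT₁ htR)) (by rw [conj_pow, B.sq]; group)
      (fun y hy => by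
        have h := ((hT₁t (hconj y hy)).symm).map (MulAut.conj a).toMonoidHom
        simpa [mul_assoc] using h) with h | h
    · exact ht1 (conj_eq_one_iff.mp h)
    · have hat : a ∈ C := mem_centralizer_singleton_iff.mpr (mul_inv_eq_iff_eq_mul.mp h)
      have hle : T₁ ⊔ zpowers a ≤ (P₁ : Subgroup G) := sup_le hP₁ (zpowers_le.mpr haP)
      obtain ⟨c, hc, hle'⟩ := hcj₁ _ (P₁.isPGroup'.to_le hle) (sup_le hT₁C (zpowers_le.mpr hat))
      have h1 := Subgroup.card_le_of_le hle'
      rw [card_map_conj] at h1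
      exact haT ((Subgroup.eq_of_le_of_card_ge (le_sup_left : T₁ ≤ T₁ ⊔ zpowers a) h1).symm ▸
        mem_sup_right (mem_zpowers a))
  -- an element of `N(R)` taking `z` to `t`
  obtain ⟨a, haT₁, haN, haz⟩ : ∃ a ∈ T₁, (∀ x ∈ R, a * x * a⁻¹ ∈ R) ∧ ¬ Commute a z := by
    haveI : Group.IsNilpotent ↥T₁ := hT₁.isNilpotent
    have hlt : R.subgroupOf T₁ < ⊤ := lt_top_iff_ne_top.mpr fun h => hzT₁ fun x hx =>
      K.z_central x (hRmem.mp (subgroupOf_eq_top.mp h hx)).1
    obtain ⟨⟨a, ha⟩, haN, haR⟩ :=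
      SetLike.exists_of_lt (Group.normalizerCondition_of_isNilpotent _ hlt)
    exact ⟨a, ha, fun x hx => (mem_normalizer_iff.mp haN ⟨x, hRT₁ hx⟩).mp hx,
      fun h => haR (hR' a ha h)⟩
  have hazz : a * z * a⁻¹ = z * t := by
    rcases hRinv _ (haN z hzR) (by rw [conj_pow, K.z_sq]; group) with h | h | h | h
    · exact absurd (conj_eq_one_iff.mp h) K.z_ne
    · exact absurd (mul_inv_eq_iff_eq_mul.mp h : a * z = z * a) haz
    · refine absurd ?_ htz.symm
      have h1 : a * t * a⁻¹ = t := by rw [(hT₁t haT₁).eq, mul_inv_cancel_right]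
      exact mul_left_cancel (mul_right_cancel (h.trans h1.symm))
    · exact h
  have hete : e * t * e⁻¹ = z * t := by
    rcases K.e_conj t ht with h | h
    · exact absurd (mul_inv_eq_iff_eq_mul.mp h) B.not_comm
    · calc e * t * e⁻¹ = e * (t * e * t⁻¹)⁻¹ * t := by group
        _ = z * t := by
          rw [h, mul_inv_rev, mul_inv_cancel_left,
            inv_eq_of_mul_eq_one_right (show z * z = 1 by rw [← pow_two]; exact K.z_sq)]
  have heR : ∀ x ∈ R, e * x * e⁻¹ ∈ R := by
    intro x hx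
    rcases K.e_conj x (hRmem.mp hx).1 with h | h
    · rw [show e * x * e⁻¹ = x by
        rw [mul_inv_eq_iff_eq_mul]; exact (mul_inv_eq_iff_eq_mul.mp h).symm]
      exact hx
    · rw [show e * x * e⁻¹ = z * x by
        calc e * x * e⁻¹ = e * (x * e * x⁻¹)⁻¹ * x := by group
          _ = z * x := by
            rw [h, mul_inv_rev, mul_inv_cancel_left,
              inv_eq_of_mul_eq_one_right (show z * z = 1 by rw [← pow_two]; exact K.z_sq)]]
      exact mul_mem hzR hx
  set n := e * a with hn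
  have hnz : n * z * n⁻¹ = t := by
    rw [hn, show e * a * z * (e * a)⁻¹ = e * (a * z * a⁻¹) * e⁻¹ by group, hazz,
      show e * (z * t) * e⁻¹ = e * z * e⁻¹ * (e * t * e⁻¹) by group, hete,
      (K.z_comm_e).eq.symm, mul_inv_cancel_right, ← mul_assoc, ← pow_two, K.z_sq, one_mul]
  have hnR : ∀ x ∈ R, n * x * n⁻¹ ∈ R := fun x hx => by
    rw [hn, show e * a * x * (e * a)⁻¹ = e * (a * x * a⁻¹) * e⁻¹ by group]
    exact heR _ (haN x hx)
  -- `R` has exponent two
  have hexp : ∀ x ∈ R, x ^ 2 = 1 := by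
    intro x hx
    by_contra hx2
    obtain ⟨k, hk⟩ := IsPGroup.iff_orderOf.mp (S.isPGroup'.to_le (inf_le_left : R ≤ _)) ⟨x, hx⟩
    rw [Subgroup.orderOf_mk] at hk
    have hk2 : 2 ≤ k := by
      by_contra h
      exact hx2 (orderOf_dvd_iff_pow_eq_one.mp (hk ▸
        (pow_dvd_pow 2 (show k ≤ 1 by omega)).trans (dvd_of_eq (pow_one 2))))
    set r := x ^ 2 ^ (k - 2) with hr
    have hrR : r ∈ R := pow_mem hx _
    have hr4 : (r * r) ^ 2 = 1 := by
      rw [hr, ← pow_add, ← pow_mul, show (2 ^ (k - 2) + 2 ^ (k - 2)) * 2 = 2 ^ k by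
        rw [← two_mul, ← pow_succ', ← pow_succ, show k - 2 + 1 + 1 = k by omega], ← hk,
        pow_orderOf_eq_one]
    have hr2 : r * r ≠ 1 := fun h => by
      rw [hr, ← pow_add, show 2 ^ (k - 2) + 2 ^ (k - 2) = 2 ^ (k - 1) by
        rw [← two_mul, ← pow_succ', show k - 2 + 1 = k - 1 by omega]] at h
      have h1 := orderOf_dvd_of_pow_eq_one h
      rw [hk, Nat.pow_dvd_pow_iff_le_right (by norm_num)] at h1
      omega
    rcases hRinv _ (mul_mem hrR hrR) hr4 with h | h | h | h
    · exact hr2 h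
    · apply B.not_comm
      have h1 : n * r * n⁻¹ * (n * r * n⁻¹) = t := by
        rw [show n * r * n⁻¹ * (n * r * n⁻¹) = n * (r * r) * n⁻¹ by group, h, hnz]
      rw [← h1]
      exact K.commute_sq (hRmem.mp (hnR r hrR)).1
    · exact B.not_comm (h ▸ K.commute_sq (hRmem.mp hrR).1)
    · refine B.not_comm ?_
      have h1 := (K.z_comm_e).mul_left (h ▸ K.commute_sq (hRmem.mp hrR).1 : Commute (z * t) e)
      rwa [← mul_assoc, ← pow_two, K.z_sq, one_mul] at h1
  -- contradiction in the 2-group `S`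
  obtain ⟨F, hF, h8, hFS, -⟩ := K.eight
  refine false_of_small_centralizer (H := ↥(S : Subgroup G)) (z := ⟨z, K.z_mem⟩) (t := ⟨t, ht⟩)
    S.isPGroup' (Subtype.ext (by rw [Subgroup.coe_mul, ← pow_two]; exact K.z_sq))
    (Subtype.ext (by rw [Subgroup.coe_mul, ← pow_two]; exact B.sq)) (Subtype.ext hzt.eq)
    (fun x hx => ?_) (T := Tu.subgroupOf (S : Subgroup G)) hTui
    (fun h => B.not_comm (hTumem.mp h).2) (fun h => B.not_comm ?_)
    (E := F.subgroupOf (S : Subgroup G))
    (fun x hx y hy => Subtype.ext (commute_of_elementary hF hx hy).eq)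
    (fun x hx => Subtype.ext (by rw [Subgroup.coe_mul, ← pow_two]; exact hF.2 _ hx))
    (by rwa [Nat.card_congr (Subgroup.subgroupOfEquivOfLe hFS).toEquiv])
  · have hxR : (x : G) ∈ R := hRmem.mpr ⟨x.2, congrArg Subtype.val hx.eq⟩
    rcases hRinv x hxR (hexp x hxR) with h | h | h | h
    · exact Or.inl (Subtype.ext h)
    · exact Or.inr (Or.inl (Subtype.ext h))
    · exact Or.inr (Or.inr (Or.inl (Subtype.ext h)))
    · exact Or.inr (Or.inr (Or.inr (Subtype.ext h)))
  · have h1 := (K.z_comm_e).mul_left ((hTumem.mp h).2 : Commute (z * t) e)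
    change Commute (z * (z * t)) e at h1
    rwa [← mul_assoc, ← pow_two, K.z_sq, one_mul] at h1

end Conf

end Cfsg.Agent.Dichotomy43
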