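import Cfsg.Agent.Dichotomy43.BadFour

/-!
# The centralizer of the central involution normalises `W`
-/

set_option autoImplicit false
set_option linter.style.haveILetI false

namespace Cfsg.Agent.Dichotomy43

open Subgroup SigDown91 BC85.Balance

universe u

variable {G : Type u} [Group G] [Finite G]

omit [Finite G] in
theorem relIndex_le_two {H K : Subgroup G} [Finite K] (hHK : H ≤ K)
    (hc : Nat.card K ≤ 2 * Nat.card H) : H.relIndex K ≤ 2 := by
  haveI : Finite H := Finite.of_injective _ (Subgroup.inclusion_injective hHK)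
  have h1 := Subgroup.card_mul_index (H.subgroupOf K)
  rw [Nat.card_congr (Subgroup.subgroupOfEquivOfLe hHK).toEquiv] at h1
  refine Nat.le_of_mul_le_mul_left ?_ (Nat.card_pos (α := H))
  rw [show H.relIndex K = (H.subgroupOf K).index from rfl, h1, mul_comm]
  exact hc

/-- Elements moving everything in `Q` at most by a central involution `w` form a normal subgroup. -/
def stab {D : Type u} [Group D] (Q : Subgroup D) [Q.Normal] (w : D) (hw : w * w = 1)
    (hwc : w ∈ center D) : Subgroup D where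
  carrier := {x | ∀ q ∈ Q, x * q * x⁻¹ = q ∨ x * q * x⁻¹ = w * q}
  one_mem' := fun q _ => Or.inl (by simp)
  mul_mem' := by
    intro a b ha hb q hq
    have hc : a * w = w * a := mem_center_iff.mp hwc a
    rcases hb q hq with h | h <;> rw [show a * b * q * (a * b)⁻¹ = a * (b * q * b⁻¹) * a⁻¹ by group, h]
    · exact ha q hq
    · rw [show a * (w * q) * a⁻¹ = w * (a * q * a⁻¹) by rw [← mul_assoc a w, hc]; group]
      rcases ha q hq with h' | h' <;> rw [h']
      · exact Or.inr rfl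
      · rw [← mul_assoc, hw, one_mul]; exact Or.inl rfl
  inv_mem' := by
    intro a ha q hq
    have hc : w * a = a * w := (mem_center_iff.mp hwc a).symm
    have hq' : a⁻¹ * q * a ∈ Q := (inferInstance : Q.Normal).conj_mem' q hq a
    rw [inv_inv]
    rcases ha _ hq' with h | h <;> rw [show a * (a⁻¹ * q * a) * a⁻¹ = q by group] at h
    · exact Or.inl h.symm
    · exact Or.inr (by
        rw [show a⁻¹ * q * a = w * (w * (a⁻¹ * q * a)) by rw [← mul_assoc, hw, one_mul], ← h])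

theorem stab_normal {D : Type u} [Group D] (Q : Subgroup D) [Q.Normal] (w : D) (hw : w * w = 1)
    (hwc : w ∈ center D) : (stab Q w hw hwc).Normal := by
  refine ⟨fun x hx g q hq => ?_⟩
  have hgw : g * w = w * g := mem_center_iff.mp hwc g
  rw [show g * x * g⁻¹ * q * (g * x * g⁻¹)⁻¹ = g * (x * (g⁻¹ * q * g) * x⁻¹) * g⁻¹ by group]
  rcases hx _ ((inferInstance : Q.Normal).conj_mem' q hq g) with h | h <;> rw [h]
  · left; group
  · right
    rw [show g * (w * (g⁻¹ * q * g)) * g⁻¹ = g * w * g⁻¹ * q by group, hgw, mul_inv_cancel_right]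

theorem stab_le_pCore {D : Type u} [Group D] [Finite D]
    (hcen : centralizer (Cfsg.pCore 2 D : Set D) ≤ Cfsg.pCore 2 D) (w : D) (hw : w * w = 1)
    (hwc : w ∈ center D) : stab (Cfsg.pCore 2 D) w hw hwc ≤ Cfsg.pCore 2 D := by
  haveI : Fact (Nat.Prime 2) := ⟨Nat.prime_two⟩
  refine Thompson.le_pCore (stab_normal _ w hw hwc) (isPGroup_two_of_odd_trivial fun x hx => ?_)
  rw [← Subgroup.orderOf_coe] at hx
  have hcom : ∀ q ∈ Cfsg.pCore 2 D, Commute (x : D) q := by
    intro q hq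
    rcases x.2 q hq with h | h
    · exact mul_inv_eq_iff_eq_mul.mp h
    have hiter : ∀ m : ℕ, (x : D) ^ m * q * ((x : D) ^ m)⁻¹ = w ^ m * q := by
      intro m
      induction m with
      | zero => simp
      | succ m ih =>
        rw [show (x : D) ^ (m + 1) * q * ((x : D) ^ (m + 1))⁻¹ =
          x * ((x : D) ^ m * q * ((x : D) ^ m)⁻¹) * (x : D)⁻¹ by rw [pow_succ' (x : D)]; group, ih,
          ← mul_assoc (x : D), mem_center_iff.mp (pow_mem hwc m) x, mul_assoc (w ^ m), mul_assoc (w ^ m),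
          h, ← mul_assoc, pow_succ]
    obtain ⟨k, hk⟩ := hx
    have h1 := hiter (orderOf (x : D))
    rw [pow_orderOf_eq_one, hk, pow_succ, pow_mul, pow_two, hw, one_pow, one_mul, one_mul, inv_one,
      mul_one] at h1
    rw [← h1] at h
    exact mul_inv_eq_iff_eq_mul.mp h
  have hxQ : (x : D) ∈ Cfsg.pCore 2 D := hcen (mem_centralizer_iff.mpr fun q hq => (hcom q hq).symm.eq)
  obtain ⟨k, hk⟩ := IsPGroup.iff_orderOf.mp Thompson.isPGroup_pCore (⟨x, hxQ⟩ : Cfsg.pCore 2 D)
  rw [Subgroup.orderOf_mk] at hk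
  refine Subtype.ext (orderOf_eq_one_iff.mp ?_)
  rcases Nat.eq_zero_or_pos k with rfl | hk0
  · rw [hk, pow_zero]
  · exact absurd ((even_iff_two_dvd).mpr (hk ▸ dvd_pow_self 2 hk0.ne'))
      (Nat.not_even_iff_odd.mpr hx)

namespace Conf

variable {S : Sylow 2 G} {z e : G}

theorem e_conj' (K : Conf S z e) {x : G} (hx : x ∈ (S : Subgroup G)) :
    e * x * e⁻¹ = x ∨ e * x * e⁻¹ = z * x := by
  rcases K.e_conj x hx with h | h
  · left
    rw [mul_inv_eq_iff_eq_mul]
    exact (mul_inv_eq_iff_eq_mul.mp h).symm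
  · right
    calc e * x * e⁻¹ = e * (x * e * x⁻¹)⁻¹ * x := by group
      _ = z * x := by
        rw [h, mul_inv_rev, mul_inv_cancel_left,
          inv_eq_of_mul_eq_one_right (show z * z = 1 by rw [← pow_two]; exact K.z_sq)]

theorem mem_of_fix (K : Conf S z e) {g : G} (hgz : Commute g z)
    (hge : g * e * g⁻¹ = e ∨ g * e * g⁻¹ = z * e) : g ∈ normalizer (wgen z e : Set G) := by
  refine K.mem_normalizer_wgen (congrArg gen ?_)
  refine Subgroup.eq_of_le_of_card_ge ?_ (card_map_conj g _).ge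
  rw [Subgroup.map_le_iff_le_comap]
  refine four_le ?_ ?_
  · show g * z * g⁻¹ ∈ four z e
    rw [hgz.eq, mul_inv_cancel_right]
    exact left_mem_four z e
  · show g * e * g⁻¹ ∈ four z e
    rcases hge with h | h <;> rw [h]
    · exact right_mem_four z e
    · exact mul_mem (left_mem_four z e) (right_mem_four z e)

theorem cpc_z_le (K : Conf S z e) : Cfsg.centralizerPPrimeCore 2 z ≤ wgen z e :=
  le_gen (left_mem_four z e) K.z_ne

/-- The part of a conjugate of `W` in the centralizer of `v ∈ {e, z e}`. -/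
theorem inf_centralizer_conj_le (K : Conf S z e) {W' : Subgroup G} (hodd : Odd (Nat.card W'))
    (hz : z ∈ normalizer (W' : Set G))
    (hW'z : W' ⊓ centralizer ({z} : Set G) ≤ Cfsg.centralizerPPrimeCore 2 z) {v : G}
    (hv : v = e ∨ v = z * e) {i : G} (hi : i * i = z) (hiv : Commute i v)
    (hiW : i ∈ normalizer (W' : Set G)) :
    W' ⊓ centralizer ({v} : Set G) ≤ wgen z e := by
  haveI : Fact (Nat.Prime 2) := ⟨Nat.prime_two⟩
  have hvU : v ∈ four z e := by
    rcases hv with rfl | rfl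
    · exact right_mem_four z v
    · exact mul_mem (left_mem_four z e) (right_mem_four z e)
  have hv1 : v ≠ 1 := by
    rcases hv with rfl | rfl
    · exact K.e_ne
    · intro h
      exact K.e_ne_z (by rw [eq_inv_of_mul_eq_one_right h, inv_eq_of_mul_eq_one_right
        (by rw [← pow_two]; exact K.z_sq)])
  have hv2 : v ^ 2 = 1 := K.big_U.1.2 v hvU
  have hzv : Commute z v := K.z_central v (K.U_le hvU)
  have hzz : z * z = 1 := by rw [← pow_two]; exact K.z_sq
  set C := centralizer ({v} : Set G) with hC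
  set Tu := (S : Subgroup G) ⊓ centralizer ({e} : Set G) with hTu
  have hTuC : Tu ≤ C := fun s hs => mem_centralizer_singleton_iff.mpr
    (K.commute_U hs.1 (mem_centralizer_singleton_iff.mp hs.2) v hvU).eq
  have hTucard : Nat.card (S : Subgroup G) ≤ 2 * Nat.card Tu :=
    card_le_two_mul inf_le_left fun a ha b hb ha' hb' => mem_inf.mpr ⟨mul_mem ha hb,
      mem_centralizer_singleton_iff.mpr (K.commute_mul ha hb
        (fun h => ha' ⟨ha, mem_centralizer_singleton_iff.mpr h.eq⟩)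
        (fun h => hb' ⟨hb, mem_centralizer_singleton_iff.mpr h.eq⟩)).eq⟩
  obtain ⟨T, hT⟩ := ((S.isPGroup'.to_le (inf_le_left : Tu ≤ _)).of_equiv
    (Subgroup.subgroupOfEquivOfLe hTuC).symm).exists_le_sylow
  have hTcard : Nat.card (T : Subgroup C) ≤ 2 * Nat.card (Tu.subgroupOf C) := by
    rw [Nat.card_congr (Subgroup.subgroupOfEquivOfLe hTuC).toEquiv]
    refine le_trans ?_ hTucard
    obtain ⟨R, hR⟩ := (T.isPGroup'.map C.subtype).exists_le_sylow
    have h1 := Subgroup.card_le_of_le hR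
    rw [Subgroup.card_map_of_injective C.subtype_injective] at h1
    exact h1.trans (le_of_eq (Nat.card_congr (Sylow.equiv R S).toEquiv))
  set O := Cfsg.pPrimeCore 2 ↥C with hO
  set π := QuotientGroup.mk' O with hπ
  have hπs : Function.Surjective π := QuotientGroup.mk'_surjective _
  set Q := Cfsg.pCore 2 (↥C ⧸ O) with hQ
  have hQT : Q ≤ (T : Subgroup C).map π := by
    have h := Thompson.pCore_le_sylow (p := 2) (T.mapSurjective hπs)
    rwa [Sylow.coe_mapSurjective] at h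
  set zC : C := ⟨z, mem_centralizer_singleton_iff.mpr hzv.eq⟩ with hzC
  set iC : C := ⟨i, mem_centralizer_singleton_iff.mpr hiv.eq⟩ with hiC
  have hrel : (Tu.subgroupOf C).relIndex (T : Subgroup C) ≤ 2 := relIndex_le_two hT hTcard
  have hTuz : ∀ s : C, s ∈ Tu.subgroupOf C → Commute (π s) (π zC) := fun s hs =>
    (show Commute s zC from Subtype.ext (K.z_central s hs.1).eq.symm).map π
  have D : Setting Q (π zC) := by
    refine ⟨inferInstance, Thompson.isPGroup_pCore,
      OddLocal44.centralizer_pCore_quotient_le (K.con v (orderOf_of_sq hv2 hv1)), ?_, ?_⟩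
    · rw [← map_mul, show zC * zC = 1 from Subtype.ext hzz, map_one]
    · refine relIndex_le_two inf_le_left (card_le_two_mul inf_le_left fun a ha b hb ha' hb' => ?_)
      obtain ⟨s, hs, rfl⟩ := hQT ha
      obtain ⟨s', hs', rfl⟩ := hQT hb
      refine mem_inf.mpr ⟨mul_mem ha hb, mem_centralizer_singleton_iff.mpr ?_⟩
      rw [← map_mul]
      refine (hTuz _ (mul_mem_of_relIndex_le_two hrel hs hs' (fun h => ha' ?_) fun h => hb' ?_)).eq
      · exact mem_inf.mpr ⟨ha, mem_centralizer_singleton_iff.mpr (hTuz s h).eq⟩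
      · exact mem_inf.mpr ⟨hb, mem_centralizer_singleton_iff.mpr (hTuz s' h).eq⟩
  set X := ((W' ⊓ C).subgroupOf C).map π with hX
  have hXodd : Odd (Nat.card X) := by
    refine hodd.of_dvd_nat (((W' ⊓ C).subgroupOf C).card_map_dvd π |>.trans ?_)
    rw [Nat.card_congr (Subgroup.subgroupOfEquivOfLe (inf_le_right : W' ⊓ C ≤ C)).toEquiv]
    exact Subgroup.card_dvd_of_le inf_le_left
  have hXconj : ∀ c : C, (c : G) ∈ normalizer (W' : Set G) → ∀ q ∈ X, π c * q * (π c)⁻¹ ∈ X := by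
    rintro c hc _ ⟨x, hx, rfl⟩
    refine ⟨c * x * c⁻¹, mem_inf.mpr ⟨?_, (c * x * c⁻¹).2⟩, by simp⟩
    exact (mem_normalizer_iff.mp hc x).mp (mem_inf.mp hx).1
  have hiX : π iC ∈ normalizer (X : Set (↥C ⧸ O)) :=
    Coprime.le_normalizer_of_conj_mem (A := zpowers (π iC)) (by
      intro p hp q hq
      obtain ⟨j, rfl⟩ := mem_zpowers_iff.mp hp
      rw [← map_zpow]
      exact hXconj _ (by rw [SubgroupClass.coe_zpow]; exact zpow_mem hiW j) q hq) (mem_zpowers _)
  have hcomm := D.centralizes (i := π iC) (by rw [← map_mul]; exact congrArg π (Subtype.ext hi))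
    hXodd hiX
  intro x hx
  set xC : C := ⟨x, hx.2⟩ with hxC
  have hxz : π (xC⁻¹ * (zC * xC * zC⁻¹)) = 1 := by
    have h := hcomm (π xC) ⟨xC, hx, rfl⟩
    simp only [map_mul, map_inv]
    rw [h.eq, mul_inv_cancel_right, inv_mul_cancel]
  set d := x⁻¹ * (z * x * z⁻¹) with hd
  have hdv : d ∈ Cfsg.centralizerPPrimeCore 2 v :=
    ⟨_, (QuotientGroup.eq_one_iff _).mp hxz, rfl⟩
  have hdW' : d ∈ W' :=
    mul_mem (inv_mem hx.1) ((mem_normalizer_iff.mp hz x).mp hx.1)
  obtain ⟨k, hk⟩ : Odd (orderOf d) := hodd.of_dvd_nat (by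
    rw [← Nat.card_zpowers]; exact Subgroup.card_dvd_of_le (zpowers_le.mpr hdW'))
  set f := d ^ (k + 1) with hf
  have hff : f * f = d := by
    rw [hf, ← pow_add, show k + 1 + (k + 1) = orderOf d + 1 by omega, pow_succ, pow_orderOf_eq_one,
      one_mul]
  have hzinv : z⁻¹ = z := inv_eq_of_mul_eq_one_right hzz
  have hdinv : z * d * z⁻¹ = d⁻¹ := by
    rw [hd, show z * (x⁻¹ * (z * x * z⁻¹)) * z⁻¹ = (z * x * z⁻¹)⁻¹ * ((z * z) * x * (z * z)⁻¹) by
      group, hzz]
    group
  have hfinv : z * f * z⁻¹ = f⁻¹ := by rw [hf, ← conj_pow, hdinv, inv_pow]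
  have hxd : z * x * z⁻¹ = x * (f * f) := by rw [hff, hd, mul_inv_cancel_left]
  have hfix : z * (x * f) * z⁻¹ = x * f := by
    rw [show z * (x * f) * z⁻¹ = z * x * z⁻¹ * (z * f * z⁻¹) by group, hxd, hfinv]
    group
  have hfC : f ∈ C := pow_mem (InvChar68.Signalizer.cpc_le v hdv) _
  have hc : x * f ∈ Cfsg.centralizerPPrimeCore 2 z ⊓ C := by
    refine mem_inf.mpr ⟨hW'z (mem_inf.mpr ⟨mul_mem hx.1 (pow_mem hdW' _), ?_⟩), mul_mem hx.2 hfC⟩
    exact mem_centralizer_singleton_iff.mpr (mul_inv_eq_iff_eq_mul.mp hfix).symm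
  have hcv : x * f ∈ Cfsg.centralizerPPrimeCore 2 v :=
    balance ⟨1, by rw [pow_one]; exact orderOf_of_sq K.z_sq K.z_ne⟩
      (K.con v (orderOf_of_sq hv2 hv1)) hzv hc
  have hxv := mul_mem hcv (inv_mem (pow_mem hdv (k + 1)))
  rw [← hf, mul_inv_cancel_right] at hxv
  exact le_gen hvU hv1 hxv

/-- **`C(z)` normalises `W`.** -/
theorem centralizer_z_le (K : Conf S z e) :
    centralizer ({z} : Set G) ≤ normalizer (wgen z e : Set G) := by
  haveI : Fact (Nat.Prime 2) := ⟨Nat.prime_two⟩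
  set M := normalizer (wgen z e : Set G) with hM
  set C := centralizer ({z} : Set G) with hC
  have hzz : z * z = 1 := by rw [← pow_two]; exact K.z_sq
  have hSC : (S : Subgroup G) ≤ C := fun s hs =>
    mem_centralizer_singleton_iff.mpr (K.z_central s hs).eq.symm
  let T : Sylow 2 C := S.subtype hSC
  set O := Cfsg.pPrimeCore 2 ↥C with hO
  have hOM : ∀ y ∈ O, (y : G) ∈ M := fun y hy =>
    Subgroup.le_normalizer (K.cpc_z_le ⟨y, hy, rfl⟩)
  set π := QuotientGroup.mk' O with hπ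
  have hπs : Function.Surjective π := QuotientGroup.mk'_surjective _
  set P0 := Cfsg.pCore 2 (↥C ⧸ O) with hP0
  set Kp := P0.comap π with hKp
  haveI : P0.Normal := inferInstance
  haveI hKn : Kp.Normal := inferInstance
  set P := (T : Subgroup C) ⊓ Kp with hPdef
  have hcop : (Nat.card O).Coprime 2 := Thompson.card_pPrimeCore_coprime
  let Tπ : Sylow 2 (↥C ⧸ O) := T.mapSurjective hπs
  have hP0T : P0 ≤ (T : Subgroup C).map π := by
    have h := Thompson.pCore_le_sylow (p := 2) Tπ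
    rwa [Sylow.coe_mapSurjective] at h
  have hKPO : Kp ≤ P ⊔ O := by
    intro k hk
    obtain ⟨s, hs, hsk⟩ := hP0T hk
    have hso : s⁻¹ * k ∈ O := QuotientGroup.eq.mp hsk
    have hsK : s ∈ Kp := by
      show π s ∈ P0
      rw [hsk]
      exact hk
    rw [show k = s * (s⁻¹ * k) by group]
    exact mul_mem (Subgroup.mem_sup_left ⟨hs, hsK⟩) (Subgroup.mem_sup_right hso)
  -- the Frattini argument
  have hfr : normalizer (P : Set C) ⊔ O = ⊤ := by
    have hPK : IsPGroup 2 (P.subgroupOf Kp) :=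
      (T.isPGroup'.to_le inf_le_left).of_equiv (Subgroup.subgroupOfEquivOfLe inf_le_right).symm
    obtain ⟨R, hR⟩ := hPK.exists_le_sylow
    have hRP : (R : Subgroup Kp).map Kp.subtype = P := by
      refine le_antisymm ?_ ?_
      · rintro _ ⟨r, hr, rfl⟩
        have hKsup := hKPO r.2
        rw [Subgroup.mem_sup_of_normal_right] at hKsup
        obtain ⟨p, hp, o, ho, hpo⟩ := hKsup
        have hoK : o ∈ Kp := by
          show π o ∈ P0
          rw [hπ, QuotientGroup.mk'_apply, (QuotientGroup.eq_one_iff o).mpr ho]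
          exact one_mem _
        have hoR : (⟨o, hoK⟩ : Kp) ∈ (R : Subgroup Kp) := by
          have hp' : (⟨p, hp.2⟩ : Kp) ∈ (R : Subgroup Kp) := hR hp
          have heq : (⟨o, hoK⟩ : Kp) = (⟨p, hp.2⟩ : Kp)⁻¹ * r := Subtype.ext (by
            show o = p⁻¹ * (r : C)
            rw [← hpo]; group)
          rw [heq]
          exact mul_mem (inv_mem hp') hr
        have ho1 : o ∈ ((R : Subgroup Kp).map Kp.subtype) ⊓ O := ⟨⟨_, hoR, rfl⟩, ho⟩
        rw [Thompson.inf_eq_bot_of_isPGroup_of_coprime (R.isPGroup'.map _) hcop,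
          Subgroup.mem_bot] at ho1
        rw [ho1, mul_one] at hpo
        show (r : C) ∈ P
        rw [← hpo]
        exact hp
      · intro p hp
        exact ⟨⟨p, hp.2⟩, hR hp, rfl⟩
    have h := Sylow.normalizer_sup_eq_top R
    rw [hRP] at h
    rw [← top_le_iff, ← h]
    refine sup_le le_sup_left (hKPO.trans (sup_le ?_ le_sup_right))
    exact Subgroup.le_normalizer.trans le_sup_left
  suffices hNP : ∀ y ∈ normalizer (P : Set C), (y : G) ∈ M by
    intro g hg
    have hmem : (⟨g, hg⟩ : C) ∈ normalizer (P : Set C) ⊔ O := hfr ▸ Subgroup.mem_top _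
    rw [Subgroup.mem_sup_of_normal_right] at hmem
    obtain ⟨n, hn, o, ho, hno⟩ := hmem
    have : g = (n : G) * (o : G) := (congrArg Subtype.val hno).symm
    rw [this]
    exact mul_mem (hNP n hn) (hOM o ho)
  -- `e` lies in `P`
  set zC : C := ⟨z, hSC K.z_mem⟩ with hzC
  set eC : C := ⟨e, hSC K.e_mem⟩ with heC
  have hw : π zC * π zC = 1 := by
    rw [← map_mul, show zC * zC = 1 from Subtype.ext hzz, map_one]
  have hwc : π zC ∈ center (↥C ⧸ O) := by
    rw [mem_center_iff]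
    intro q
    obtain ⟨c, rfl⟩ := hπs q
    rw [← map_mul, ← map_mul]
    exact congrArg π (Subtype.ext (mem_centralizer_singleton_iff.mp c.2))
  have hcen := OddLocal44.centralizer_pCore_quotient_le (K.con z (orderOf_of_sq K.z_sq K.z_ne))
  have heP : eC ∈ P := by
    refine ⟨K.e_mem, ?_⟩
    show π eC ∈ P0
    refine stab_le_pCore hcen (π zC) hw hwc fun q hq => ?_
    obtain ⟨s, hs, rfl⟩ := hP0T hq
    simp only [← map_mul, ← map_inv]
    rcases K.e_conj' (x := (s : G)) hs with h | h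
    · exact Or.inl (congrArg π (Subtype.ext h))
    · exact Or.inr (congrArg π (Subtype.ext h))
  intro y hy
  -- `P` as a subgroup of `G`
  set PG := P.map C.subtype with hPG
  have hPS : PG ≤ (S : Subgroup G) := by
    rintro _ ⟨p, hp, rfl⟩
    exact hp.1
  have hePG : e ∈ PG := ⟨eC, heP, rfl⟩
  have hPconj : ∀ c ∈ normalizer (P : Set C), ∀ x ∈ PG, (c : G) * x * (c : G)⁻¹ ∈ PG := by
    rintro c hc _ ⟨p, hp, rfl⟩
    exact ⟨c * p * c⁻¹, (mem_normalizer_iff.mp hc p).mp hp, rfl⟩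
  have hcz : ∀ c : C, Commute (c : G) z := fun c => mem_centralizer_singleton_iff.mp c.2
  by_cases hbig : ∃ V : Subgroup G, Cfsg.IsElementaryAbelian 2 V ∧ 8 ≤ Nat.card V ∧ V ≤ PG
  · obtain ⟨V, hV, h8, hVP⟩ := hbig
    rw [hM, mem_normalizer_iff_map_conj_eq]
    change (wgen z e).map (MulAut.conj (y : G)).toMonoidHom = wgen z e
    rw [← K.gen_eight hV h8 (hVP.trans hPS), gen_map_conj]
    rw [K.gen_eight hV h8 (hVP.trans hPS)]
    refine K.gen_eight (elementary_map_conj _ hV) (by rwa [card_map_conj]) ?_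
    rintro _ ⟨x, hx, rfl⟩
    exact hPS (hPconj y hy x (hVP hx))
  push Not at hbig
  have hno8 : ∀ a ∈ PG, ∀ b ∈ PG, a ^ 2 = 1 → b ^ 2 = 1 → a ≠ 1 → a ≠ z → z ∈ PG → Commute a b →
      b ∈ four z a := by
    intro a ha b hb ha2 hb2 ha1 haz hzP hab
    by_contra hne
    obtain ⟨E, hE, h8, -, -, hle⟩ := eight_of_insert
      (K.big_four (hPS ha) ha2 ha1 haz) hb2 hne
      (commute_four (K.z_central b (hPS hb)).symm hab.symm)
    exact absurd (hle PG (four_le hzP ha) hb) (hbig E hE h8)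
  have hzPG : z ∈ PG := by
    have h2 : π zC ∈ P0 := stab_le_pCore hcen (π zC) hw hwc fun q _ => Or.inl (by
      rw [← mem_center_iff.mp hwc q, mul_inv_cancel_right])
    exact ⟨zC, ⟨K.z_mem, h2⟩, rfl⟩
  -- the stabiliser of `U`
  let Hs : Subgroup C :=
    { carrier := {c | c ∈ normalizer (P : Set C) ∧
        ((c : G) * e * (c : G)⁻¹ = e ∨ (c : G) * e * (c : G)⁻¹ = z * e)}
      one_mem' := ⟨one_mem _, Or.inl (by simp)⟩
      mul_mem' := by
        rintro a b ⟨ha, ha'⟩ ⟨hb, hb'⟩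
        refine ⟨mul_mem ha hb, ?_⟩
        rw [Subgroup.coe_mul, show (a : G) * b * e * ((a : G) * b)⁻¹ =
          (a : G) * (b * e * (b : G)⁻¹) * (a : G)⁻¹ by group]
        rcases hb' with h | h <;> rw [h]
        · exact ha'
        · rw [show (a : G) * (z * e) * (a : G)⁻¹ = z * (a * e * (a : G)⁻¹) by
            rw [← mul_assoc (a : G) z, (hcz a).eq]; group]
          rcases ha' with h' | h' <;> rw [h']
          · exact Or.inr rfl
          · rw [← mul_assoc, hzz, one_mul]; exact Or.inl rfl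
      inv_mem' := by
        rintro a ⟨ha, ha'⟩
        refine ⟨inv_mem ha, ?_⟩
        rw [Subgroup.coe_inv, inv_inv]
        rcases ha' with h | h
        · left; exact (by rw [mul_assoc, ← mul_inv_eq_iff_eq_mul.mp h, inv_mul_cancel_left])
        · right
          calc (a : G)⁻¹ * e * a = (a : G)⁻¹ * (z * (z * e)) * a := by
                rw [← mul_assoc z, hzz, one_mul]
            _ = (a : G)⁻¹ * (z * (a * e * (a : G)⁻¹)) * a := by rw [h]
            _ = (a : G)⁻¹ * ((a : G) * z) * e := by rw [(hcz a).eq]; group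
            _ = z * e := by rw [inv_mul_cancel_left] }
  by_cases hyH : y ∈ Hs
  · exact K.mem_of_fix (hcz y) hyH.2
  -- three conjugates of `U`
  obtain ⟨y', hy', hy'H, hyy'⟩ : ∃ y' ∈ normalizer (P : Set C), y' ∉ Hs ∧ y⁻¹ * y' ∉ Hs := by
    by_contra hne
    push Not at hne
    set N := normalizer (P : Set C) with hN
    have hTN : (T : Subgroup C) ≤ N := by
      refine Coprime.le_normalizer_of_conj_mem fun a ha x hx => mem_inf.mpr ⟨?_, hKn.conj_mem x hx.2 a⟩
      exact mul_mem (mul_mem ha hx.1) (inv_mem ha)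
    have hTH : (T : Subgroup C) ≤ Hs := fun c hc => ⟨hTN hc, K.e_conj c hc⟩
    have h2 : Hs.relIndex N = 2 := by
      refine Subgroup.index_eq_two_iff'.mpr ⟨⟨y, hy⟩⁻¹, fun b => ?_⟩
      by_cases hb : (b : C) ∈ Hs
      · exact Or.inr ⟨hb, fun h => hyH (inv_mem_iff.mp ((mul_mem_cancel_right
          (show b ∈ Hs.subgroupOf N from hb)).mp h))⟩
      · exact Or.inl ⟨hne b b.2 hb, hb⟩
    apply T.not_dvd_index
    rw [← Subgroup.relIndex_mul_index hTN]
    have h3 := Subgroup.relIndex_dvd_of_le_left N hTH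
    rw [h2] at h3
    exact dvd_mul_of_dvd_left h3 _
  set v₁ := (y : G) * e * (y : G)⁻¹ with hv₁
  set v₂ := (y' : G) * e * (y' : G)⁻¹ with hv₂
  have hv : ∀ c ∈ normalizer (P : Set C), (c : G) * e * (c : G)⁻¹ ∈ PG ∧
      ((c : G) * e * (c : G)⁻¹) ^ 2 = 1 ∧ (c : G) * e * (c : G)⁻¹ ≠ 1 ∧
      (c : G) * e * (c : G)⁻¹ ≠ z := by
    intro c hc
    refine ⟨hPconj c hc e hePG, by rw [conj_pow, K.e_sq]; group,
      fun h => K.e_ne (conj_eq_one_iff.mp h), fun h => K.e_ne_z ?_⟩
    calc e = (c : G)⁻¹ * ((c : G) * e * (c : G)⁻¹) * c := by group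
      _ = (c : G)⁻¹ * ((c : G) * z) := by rw [h, mul_assoc, (hcz c).eq]
      _ = z := inv_mul_cancel_left _ _
  have hnot : ∀ c ∈ normalizer (P : Set C), c ∉ Hs → ¬ Commute ((c : G) * e * (c : G)⁻¹) e := by
    intro c hc hcH hcom
    obtain ⟨h1, h2, h3, h4⟩ := hv c hc
    have h := hno8 e hePG _ h1 K.e_sq h2 K.e_ne K.e_ne_z hzPG hcom.symm
    rcases eq_of_mem_four K.z_sq K.e_sq K.z_comm_e h with h | h | h | h
    · exact h3 h
    · exact h4 h
    · exact hcH ⟨hc, Or.inl h⟩
    · exact hcH ⟨hc, Or.inr h⟩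
  obtain ⟨hv₁P, hv₁2, hv₁1, hv₁z⟩ := hv y hy
  obtain ⟨hv₂P, hv₂2, hv₂1, hv₂z⟩ := hv y' hy'
  rw [← hv₁] at hv₁P hv₁2 hv₁1 hv₁z
  rw [← hv₂] at hv₂P hv₂2 hv₂1 hv₂z
  have h12 : ¬ Commute v₁ v₂ := by
    intro hcom
    have h := hno8 v₁ hv₁P v₂ hv₂P hv₁2 hv₂2 hv₁1 hv₁z hzPG hcom
    apply hyy'
    refine ⟨mul_mem (inv_mem hy) hy', ?_⟩
    have hcoe : ((y⁻¹ * y' : C) : G) * e * ((y⁻¹ * y' : C) : G)⁻¹ = (y : G)⁻¹ * v₂ * y := by
      rw [hv₂, Subgroup.coe_mul, Subgroup.coe_inv]; group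
    rw [hcoe]
    rcases eq_of_mem_four K.z_sq hv₁2 (K.z_central v₁ (hPS hv₁P)) h with h | h | h | h
    · exact absurd h hv₂1
    · exact absurd h hv₂z
    · left; rw [h, hv₁]; group
    · right
      rw [h, hv₁, show (y : G)⁻¹ * (z * ((y : G) * e * (y : G)⁻¹)) * y = (y : G)⁻¹ * (z * y) * e by
        group, ← (hcz y).eq, inv_mul_cancel_left]
  have hv21 : v₂ * v₁ * v₂⁻¹ = z * v₁ := by
    have hs := hPconj y⁻¹ (inv_mem hy) v₂ hv₂P
    rw [Subgroup.coe_inv, inv_inv] at hs
    rcases K.e_conj _ (hPS hs) with h | h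
    · exfalso
      apply h12
      have h' := congrArg (fun w => (y : G) * w * (y : G)⁻¹) h
      have h'' : v₂ * v₁ * v₂⁻¹ = v₁ := by
        rw [hv₁]
        calc v₂ * ((y : G) * e * (y : G)⁻¹) * v₂⁻¹
            = y * ((y : G)⁻¹ * v₂ * y * e * ((y : G)⁻¹ * v₂ * y)⁻¹) * (y : G)⁻¹ := by group
          _ = _ := h'
      exact (mul_inv_eq_iff_eq_mul.mp h'' : v₂ * v₁ = v₁ * v₂).symm
    · have h' := congrArg (fun w => (y : G) * w * (y : G)⁻¹) h
      rw [hv₁]
      calc v₂ * ((y : G) * e * (y : G)⁻¹) * v₂⁻¹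
          = y * ((y : G)⁻¹ * v₂ * y * e * ((y : G)⁻¹ * v₂ * y)⁻¹) * (y : G)⁻¹ := by group
        _ = (y : G) * (z * e) * (y : G)⁻¹ := h'
        _ = _ := by rw [← mul_assoc (y : G) z, (hcz y).eq]; group
  set i := v₁ * v₂ with hi
  have hii : i * i = z := by
    have h2 : v₂⁻¹ = v₂ := inv_eq_of_mul_eq_one_right (by rw [← pow_two]; exact hv₂2)
    have h3 : i * i = v₁ * (v₂ * v₁ * v₂⁻¹) := by rw [hi, h2]; group
    rw [h3, hv21, ← mul_assoc, ← (K.z_central v₁ (hPS hv₁P)).eq, mul_assoc, ← pow_two, hv₁2, mul_one]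
  have hie : Commute i e := K.commute_mul (hPS hv₁P) (hPS hv₂P) (hnot y hy hyH) (hnot y' hy' hy'H)
  have hiz : Commute i z := (K.z_central i (mul_mem (hPS hv₁P) (hPS hv₂P))).symm
  -- the conjugate of `W`
  set W := wgen z e with hW
  set W' := W.map (MulAut.conj (y : G)).toMonoidHom with hW'
  have hW'odd : Odd (Nat.card W') := by rw [hW', card_map_conj]; exact K.odd_wgen
  have hPW' : PG ≤ normalizer (W' : Set G) := by
    refine Coprime.le_normalizer_of_conj_mem fun p hp x hx => ?_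
    obtain ⟨w, hw, rfl⟩ := hx
    have hp' := hPconj y⁻¹ (inv_mem hy) p hp
    rw [Subgroup.coe_inv, inv_inv] at hp'
    refine ⟨(y : G)⁻¹ * p * y * w * ((y : G)⁻¹ * p * y)⁻¹,
      (mem_normalizer_iff.mp (K.sylow_le (hPS hp')) w).mp hw, ?_⟩
    simp [mul_assoc]
  have hW'z : W' ⊓ centralizer ({z} : Set G) ≤ Cfsg.centralizerPPrimeCore 2 z := by
    rintro x ⟨⟨w, hw, rfl⟩, hx⟩
    have hwz : Commute w z := by
      have h : Commute ((y : G) * w * (y : G)⁻¹) z := mem_centralizer_singleton_iff.mp hx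
      have h1 := (((hcz y).inv_left).mul_left h).mul_left (hcz y)
      simpa [mul_assoc] using h1
    exact (mem_normalizer_iff.mp (InvChar68.Signalizer.le_normalizer_cpc z y.2) w).mp
      (K.inf_centralizer_le (left_mem_four z e) K.z_ne
        ⟨hw, mem_centralizer_singleton_iff.mpr hwz.eq⟩)
  have hle : W' ≤ W := by
    refine SFT45.le_of_forall_hyp K.big_U.1 ((four_le hzPG hePG).trans hPW')
      (Nat.coprime_two_left.mpr hW'odd) fun B hB => ?_
    have h2 : 1 < Nat.card B := by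
      have := K.big_U.2
      have := hB.2
      omega
    obtain ⟨⟨b, hb⟩, hb1⟩ := (Subgroup.ne_bot_iff_exists_ne_one).mp
      (one_lt_card_iff_ne_bot B |>.mp h2)
    have hb1' : b ≠ 1 := fun h => hb1 (Subtype.ext h)
    refine le_trans (inf_le_inf_left _ (centralizer_le (Set.singleton_subset_iff.mpr hb))) ?_
    rcases eq_of_mem_four K.z_sq K.e_sq K.z_comm_e (hB.1 hb) with h | h | h | h
    · exact absurd h hb1'
    · rw [h]; exact hW'z.trans K.cpc_z_le
    · exact K.inf_centralizer_conj_le hW'odd (hPW' hzPG) hW'z (Or.inl h) hii (h ▸ hie)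
        (hPW' (mul_mem hv₁P hv₂P))
    · exact K.inf_centralizer_conj_le hW'odd (hPW' hzPG) hW'z (Or.inr h) hii
        (h ▸ hiz.mul_right hie) (hPW' (mul_mem hv₁P hv₂P))
  rw [hM, mem_normalizer_iff_map_conj_eq]
  exact Subgroup.eq_of_le_of_card_ge hle (card_map_conj (y : G) W).ge

end Conf

end Cfsg.Agent.Dichotomy43
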