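import Cfsg.Agent.Dichotomy43.CentralizerZ
import Cfsg.Agent.BC85.Balance.Main

/-!
# The Dichotomy Theorem modulo the theorem of Bender
-/

set_option autoImplicit false
set_option linter.style.haveILetI false

namespace Cfsg.Agent.Dichotomy43

open Subgroup SigDown91 BC85.Balance

universe u

variable {G : Type u} [Group G] [Finite G]

namespace Conf

variable {S : Sylow 2 G} {z e : G}

/-- A bad four group also yields `W`. -/
theorem gen_bad (K : Conf S z e) (hno2 : ∀ N : Subgroup G, N.Normal → N.index ≠ 2) {t : G}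
    (B : Bad S z e t) : gen (four z t) = wgen z e := by
  haveI : Fact (Nat.Prime 2) := ⟨Nat.prime_two⟩
  obtain ⟨F, hF, h8, hFc⟩ := K.bad_eight hno2 B
  obtain ⟨ht1, htz⟩ := K.bad_ne B
  have hX := K.big_four B.mem B.sq ht1 htz
  have hel : Cfsg.IsElementaryAbelian 2 (four z t ⊔ F : Subgroup G) :=
    Components.sup_elementary hX.1 hF fun x hx f hf =>
      (commute_four (hFc f hf).1.symm (hFc f hf).2.symm x hx).symm.eq
  set E := four z t ⊔ F with hE
  have h8E : 8 ≤ Nat.card E := h8.trans (Subgroup.card_le_of_le le_sup_right)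
  have hSz : (S : Subgroup G) ≤ centralizer ({z} : Set G) := fun s hs =>
    mem_centralizer_singleton_iff.mpr (K.z_central s hs).eq.symm
  obtain ⟨T, hT, hST, -, hcj⟩ := exists_sylow_within hSz S.isPGroup'
  obtain ⟨c, hc, hle⟩ := hcj E (Signal38.isPGroup_of_elementary (p := 2) hel) (sup_le
    ((four_le K.z_mem B.mem).trans hSz)
    fun f hf => mem_centralizer_singleton_iff.mpr (hFc f hf).1.eq.symm)
  rw [S.3 hT hST] at hle
  have h1 := K.gen_eight (elementary_map_conj c hel) (by rwa [card_map_conj]) hle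
  rw [← gen_map_conj,
    gen_eq_of_le K.con ⟨hel, le_trans (by norm_num) h8E⟩ hX (le_sup_left : four z t ≤ E)] at h1
  have hcM := mem_normalizer_iff_map_conj_eq.mp (K.centralizer_z_le hc)
  exact Subgroup.map_injective (f := (MulAut.conj c).toMonoidHom) (MulAut.conj c).injective
    (h1.trans hcM.symm)

theorem data (K : Conf S z e) (hno2 : ∀ N : Subgroup G, N.Normal → N.index ≠ 2) :
    Data S (wgen z e) := by
  refine ⟨K.odd_wgen, fun X hX hXS => ?_, fun t ht hto => ?_, fun t ht hto => ?_,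
    ⟨four z e, K.big_U, K.U_le⟩, K.con⟩
  · rcases K.classify hX hXS with h | ⟨t, -, B, h⟩
    · exact h
    · exact h.trans (K.gen_bad hno2 B)
  · by_cases htz : t = z
    · exact ⟨four z e, K.big_U, K.U_le, htz ▸ left_mem_four z e⟩
    · refine ⟨four z t, K.big_four ht ?_ ?_ htz, four_le K.z_mem ht, right_mem_four z t⟩
      · rw [← hto]; exact pow_orderOf_eq_one t
      · intro h; rw [h, orderOf_one] at hto; norm_num at hto
  · have ht2 : t ^ 2 = 1 := by rw [← hto]; exact pow_orderOf_eq_one t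
    by_cases hB : Bad S z e t
    · obtain ⟨F, hF, h8, hFc⟩ := K.bad_eight hno2 hB
      exact ⟨F, hF, h8, fun f hf => (hFc f hf).2⟩
    · obtain ⟨E, hE, h8, -, -, htE⟩ := K.exists_eight_of_not_bad ht ht2 hB
      exact ⟨E, hE, h8, fun f hf => commute_of_elementary hE htE hf⟩

end Conf

/-- **The data of the signalizer method without a connectedness hypothesis.** -/
theorem exists_data
    (hcon : ∀ j : G, orderOf j = 2 → Cfsg.IsPConstrained 2 ↥(centralizer ({j} : Set G)))
    (hno2 : ∀ N : Subgroup G, N.Normal → N.index ≠ 2) (h3 : ¬ Cfsg.PRankLE 2 2 G) (S : Sylow 2 G) :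
    ∃ W : Subgroup G, Data S W := by
  obtain ⟨z, e, K⟩ := exists_conf hcon h3 S
  exact ⟨_, K.data hno2⟩

/-- Constrained centralizers, no subgroup of index 2 and trivial core give trivial cores. -/
theorem cores_trivial (hB : BenderCore.{u})
    (hcon : ∀ j : G, orderOf j = 2 → Cfsg.IsPConstrained 2 ↥(centralizer ({j} : Set G)))
    (hno2 : ∀ N : Subgroup G, N.Normal → N.index ≠ 2) (h3 : ¬ Cfsg.PRankLE 2 2 G)
    (hO : Cfsg.oddCore G = ⊥) {t : G} (ht : orderOf t = 2) :
    Cfsg.centralizerPPrimeCore 2 t = ⊥ := by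
  obtain ⟨S⟩ := (inferInstance : Nonempty (Sylow 2 G))
  obtain ⟨W, D⟩ := exists_data hcon hno2 h3 S
  exact D.cpc_eq_bot hB hO ht

/-- The statement of S1296. -/
theorem dichotomy (hB : BenderCore.{u}) (heven : Even (Nat.card G))
    (hno2 : ∀ N : Subgroup G, N.Normal → N.index ≠ 2) (hO : Cfsg.oddCore G = ⊥) :
    Cfsg.PRankLE 2 2 G ∨ Cfsg.IsComponentType G ∨ Cfsg.IsCharacteristicTwoType G := by
  by_cases h3 : Cfsg.PRankLE 2 2 G
  · exact Or.inl h3
  by_cases hc : Cfsg.IsComponentType G
  · exact Or.inr (Or.inl hc)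
  have hcon : ∀ j : G, orderOf j = 2 → Cfsg.IsPConstrained 2 ↥(centralizer ({j} : Set G)) :=
    fun j hj => isPConstrained_of_no_component fun h => hc ⟨j, hj, h⟩
  exact Or.inr (Or.inr (characteristicTwoType heven hcon
    fun t ht => cores_trivial hB hcon hno2 h3 hO ht))

end Cfsg.Agent.Dichotomy43
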