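import Cfsg.Agent.BC85.Balance.Instances
import Cfsg.Agent.Lib.Involution.NormalFour

/-!
# The four group `U` normal in a Sylow 2-subgroup and the subgroup `W` attached to it
-/

set_option autoImplicit false
set_option linter.style.haveILetI false

namespace Cfsg.Agent.Dichotomy43

open Subgroup SigDown91 BC85.Balance

universe u

variable {G : Type u} [Group G] [Finite G]

/-- The subgroup generated by two elements. -/
def four (a b : G) : Subgroup G := Subgroup.closure {a, b}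

omit [Finite G] in
theorem left_mem_four (a b : G) : a ∈ four a b := subset_closure (by simp)

omit [Finite G] in
theorem right_mem_four (a b : G) : b ∈ four a b := subset_closure (by simp)

omit [Finite G] in
theorem four_le {a b : G} {K : Subgroup G} (ha : a ∈ K) (hb : b ∈ K) : four a b ≤ K :=
  (closure_le K).mpr (by intro w hw; rcases hw with rfl | rfl <;> assumption)

omit [Finite G] in
theorem commute_four {a b g : G} (ha : Commute g a) (hb : Commute g b) :
    ∀ x ∈ four a b, Commute g x := fun _ hx =>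
  (mem_centralizer_singleton_iff.mp (four_le (K := centralizer ({g} : Set G))
    (mem_centralizer_singleton_iff.mpr ha.symm.eq) (mem_centralizer_singleton_iff.mpr hb.symm.eq)
    hx)).symm

omit [Finite G] in
theorem eq_of_mem_four {a b : G} (ha : a ^ 2 = 1) (hb : b ^ 2 = 1) (hc : Commute a b) {x : G}
    (hx : x ∈ four a b) : x = 1 ∨ x = a ∨ x = b ∨ x = a * b := by
  have ha' : a⁻¹ = a := inv_eq_of_mul_eq_one_right (by rwa [← pow_two])
  have hb' : b⁻¹ = b := inv_eq_of_mul_eq_one_right (by rwa [← pow_two])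
  rw [pow_two] at ha hb
  have hba : b * a = a * b := hc.eq.symm
  induction hx using closure_induction with
  | mem x hx => rcases hx with rfl | rfl <;> simp
  | one => simp
  | mul x y _ _ hx hy =>
    have h1 : a * (a * b) = b := by rw [← mul_assoc, ha, one_mul]
    have h2 : b * (a * b) = a := by rw [← mul_assoc, hba, mul_assoc, hb, mul_one]
    have h3 : a * b * a = b := by rw [mul_assoc, hba, h1]
    have h4 : a * b * b = a := by rw [mul_assoc, hb, mul_one]
    have h5 : a * b * (a * b) = 1 := by rw [← mul_assoc, h3, hb]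
    rcases hx with rfl | rfl | rfl | rfl <;> rcases hy with rfl | rfl | rfl | rfl <;>
      simp [ha, hb, hba, h1, h2, h3, h4, h5]
  | inv x _ hx =>
    rcases hx with rfl | rfl | rfl | rfl
    · simp
    · simp [ha']
    · simp [hb']
    · right; right; right; rw [mul_inv_rev, ha', hb', hba]

theorem isBig_four {a b : G} (ha : a ^ 2 = 1) (hb : b ^ 2 = 1) (ha1 : a ≠ 1) (hb1 : b ≠ 1)
    (hab : a ≠ b) (hc : Commute a b) : IsBig (four a b) := by
  obtain ⟨V, hV, hVK, haV, hbV, -⟩ := exists_big (K := four a b) a b ha hb ha1 hb1 hab hc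
    (left_mem_four a b) (right_mem_four a b)
  rwa [le_antisymm (four_le haV hbV) hVK]

omit [Finite G] in
theorem card_le_two_mul {H K : Subgroup G} [Finite K] (hHK : H ≤ K)
    (h : ∀ a ∈ K, ∀ b ∈ K, a ∉ H → b ∉ H → a * b ∈ H) : Nat.card K ≤ 2 * Nat.card H := by
  have h1 := Subgroup.card_mul_index (H.subgroupOf K)
  rw [Nat.card_congr (Subgroup.subgroupOfEquivOfLe hHK).toEquiv] at h1
  have h2 : (H.subgroupOf K).index ≤ 2 := by
    by_cases htop : H.subgroupOf K = ⊤
    · simp [htop]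
    obtain ⟨a, ha⟩ : ∃ a, a ∉ H.subgroupOf K := by
      by_contra hne
      push Not at hne
      exact htop (eq_top_iff' _ |>.mpr hne)
    refine le_of_eq (Subgroup.index_eq_two_iff'.mpr ⟨a, fun b => ?_⟩)
    by_cases hb : b ∈ H.subgroupOf K
    · exact Or.inr ⟨hb, fun hab => ha ((mul_mem_cancel_right hb).mp hab)⟩
    · exact Or.inl ⟨h a a.2 b b.2 ha hb, hb⟩
  calc Nat.card K = Nat.card H * (H.subgroupOf K).index := h1.symm
    _ ≤ Nat.card H * 2 := Nat.mul_le_mul_left _ h2
    _ = 2 * Nat.card H := mul_comm _ _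

/-- Adjoining a commuting involution to a big subgroup. -/
theorem eight_of_insert {V : Subgroup G} (hV : IsBig V) {f : G} (hf : f ^ 2 = 1) (hfV : f ∉ V)
    (hc : ∀ v ∈ V, Commute f v) :
    ∃ E : Subgroup G, Cfsg.IsElementaryAbelian 2 E ∧ 8 ≤ Nat.card E ∧ V ≤ E ∧ f ∈ E ∧
      ∀ K : Subgroup G, V ≤ K → f ∈ K → E ≤ K := by
  haveI : Fact (Nat.Prime 2) := ⟨Nat.prime_two⟩
  have hZ : Cfsg.IsElementaryAbelian 2 (zpowers f) := by
    refine ⟨inferInstance, ?_⟩
    rintro _ ⟨i, rfl⟩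
    show (f ^ i) ^ 2 = 1
    rw [← zpow_natCast, ← zpow_mul, mul_comm, zpow_mul, zpow_natCast, hf, one_zpow]
  have hel : Cfsg.IsElementaryAbelian 2 (zpowers f ⊔ V : Subgroup G) :=
    Components.sup_elementary hZ hV.1 fun a ha v hv => by
      obtain ⟨i, rfl⟩ := mem_zpowers_iff.mp ha
      exact ((hc v hv).zpow_left i).eq
  have hlt : 4 < Nat.card (zpowers f ⊔ V : Subgroup G) := by
    refine lt_of_le_of_lt hV.2 (lt_of_le_of_ne (Subgroup.card_le_of_le le_sup_right) fun he => hfV ?_)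
    exact (Subgroup.eq_of_le_of_card_ge (le_sup_right : V ≤ zpowers f ⊔ V) he.ge).symm ▸
      Subgroup.mem_sup_left (mem_zpowers f)
  exact ⟨_, hel, Components.pow_three_le hel hlt, le_sup_right,
    Subgroup.mem_sup_left (mem_zpowers f), fun K hK hfK => sup_le (zpowers_le.mpr hfK) hK⟩

/-- A conjugate of an elementary abelian subgroup. -/
theorem elementary_map_conj (g : G) {E : Subgroup G} (hE : Cfsg.IsElementaryAbelian 2 E) :
    Cfsg.IsElementaryAbelian 2 (E.map (MulAut.conj g).toMonoidHom) := by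
  haveI := hE.1
  refine ⟨inferInstance, ?_⟩
  rintro _ ⟨x, hx, rfl⟩
  rw [← map_pow, hE.2 x hx, map_one]

omit [Finite G] in
theorem card_map_conj (g : G) (E : Subgroup G) :
    Nat.card (E.map (MulAut.conj g).toMonoidHom : Subgroup G) = Nat.card E :=
  Subgroup.card_map_of_injective (MulAut.conj g).injective

omit [Finite G] in
theorem commute_of_elementary {E : Subgroup G} (hE : Cfsg.IsElementaryAbelian 2 E) {x y : G}
    (hx : x ∈ E) (hy : y ∈ E) : Commute x y := by
  haveI := hE.1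
  exact congrArg Subtype.val (mul_comm' (⟨x, hx⟩ : E) ⟨y, hy⟩)

/-- A subgroup which plays the part of a Sylow 2-subgroup of `C`. -/
theorem exists_sylow_within {C P : Subgroup G} (hPC : P ≤ C) (hP : IsPGroup 2 P) :
    ∃ T : Subgroup G, IsPGroup 2 T ∧ P ≤ T ∧ T ≤ C ∧
      ∀ R : Subgroup G, IsPGroup 2 R → R ≤ C → ∃ c ∈ C, R.map (MulAut.conj c).toMonoidHom ≤ T := by
  haveI : Fact (Nat.Prime 2) := ⟨Nat.prime_two⟩
  obtain ⟨Q, hQ⟩ := (hP.of_equiv (Subgroup.subgroupOfEquivOfLe hPC).symm).exists_le_sylow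
  refine ⟨(Q : Subgroup C).map C.subtype, Q.isPGroup'.map _, fun x hx => ⟨⟨x, hPC hx⟩, hQ hx, rfl⟩,
    map_subtype_le _, fun R hR hRC => ?_⟩
  obtain ⟨Q', hQ'⟩ := (hR.of_equiv (Subgroup.subgroupOfEquivOfLe hRC).symm).exists_le_sylow
  obtain ⟨c, hc⟩ := MulAction.exists_smul_eq C Q' Q
  refine ⟨c, c.2, ?_⟩
  rintro _ ⟨x, hx, rfl⟩
  refine ⟨c * ⟨x, hRC hx⟩ * c⁻¹, ?_, rfl⟩
  rw [← hc, Sylow.coe_subgroup_smul]
  exact ⟨⟨x, hRC hx⟩, hQ' hx, rfl⟩

/-- The standing hypotheses. -/
structure Conf (S : Sylow 2 G) (z e : G) : Prop where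
  con : ∀ j : G, orderOf j = 2 → Cfsg.IsPConstrained 2 ↥(centralizer ({j} : Set G))
  z_mem : z ∈ (S : Subgroup G)
  e_mem : e ∈ (S : Subgroup G)
  z_sq : z ^ 2 = 1
  e_sq : e ^ 2 = 1
  z_ne : z ≠ 1
  e_ne : e ≠ 1
  e_ne_z : e ≠ z
  z_central : ∀ s ∈ (S : Subgroup G), Commute z s
  e_conj : ∀ s ∈ (S : Subgroup G), s * e * s⁻¹ = e ∨ s * e * s⁻¹ = z * e
  eight : ∃ E : Subgroup G, Cfsg.IsElementaryAbelian 2 E ∧ 8 ≤ Nat.card E ∧
    E ≤ (S : Subgroup G) ∧ four z e ≤ E

/-- The subgroup `W`. -/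
abbrev wgen (z e : G) : Subgroup G := gen (four z e)

namespace Conf

variable {S : Sylow 2 G} {z e : G}

theorem z_comm_e (K : Conf S z e) : Commute z e := K.z_central e K.e_mem

theorem big_U (K : Conf S z e) : IsBig (four z e) :=
  isBig_four K.z_sq K.e_sq K.z_ne K.e_ne K.e_ne_z.symm K.z_comm_e

theorem U_le (K : Conf S z e) : four z e ≤ (S : Subgroup G) := four_le K.z_mem K.e_mem

theorem commute_mul (K : Conf S z e) {a b : G} (ha : a ∈ (S : Subgroup G))
    (hb : b ∈ (S : Subgroup G)) (ha' : ¬ Commute a e) (hb' : ¬ Commute b e) :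
    Commute (a * b) e := by
  have h : ∀ {s}, s ∈ (S : Subgroup G) → ¬ Commute s e → s * e * s⁻¹ = z * e := fun {s} hs hn =>
    (K.e_conj s hs).resolve_left fun h => hn (mul_inv_eq_iff_eq_mul.mp h)
  refine mul_inv_eq_iff_eq_mul.mp ?_
  rw [show a * b * e * (a * b)⁻¹ = a * (b * e * b⁻¹) * a⁻¹ by group, h hb hb',
    show a * (z * e) * a⁻¹ = a * z * a⁻¹ * (a * e * a⁻¹) by group, h ha ha',
    (K.z_central a ha).symm.eq, mul_inv_cancel_right, ← mul_assoc, ← pow_two, K.z_sq, one_mul]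

theorem commute_sq (K : Conf S z e) {a : G} (ha : a ∈ (S : Subgroup G)) : Commute (a * a) e := by
  by_cases h : Commute a e
  · exact h.mul_left h
  · exact K.commute_mul ha ha h h

theorem commute_U (K : Conf S z e) {a : G} (ha : a ∈ (S : Subgroup G)) (hae : Commute a e) :
    ∀ v ∈ four z e, Commute a v :=
  commute_four (K.z_central a ha).symm hae

theorem exists_eight_of_commute (K : Conf S z e) {t : G} (ht : t ∈ (S : Subgroup G))
    (ht2 : t ^ 2 = 1) (hte : Commute t e) :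
    ∃ E : Subgroup G, Cfsg.IsElementaryAbelian 2 E ∧ 8 ≤ Nat.card E ∧ E ≤ (S : Subgroup G) ∧
      four z e ≤ E ∧ t ∈ E := by
  by_cases htU : t ∈ four z e
  · obtain ⟨E, hE, h8, hES, hUE⟩ := K.eight
    exact ⟨E, hE, h8, hES, hUE, hUE htU⟩
  obtain ⟨E, hE, h8, hUE, htE, hle⟩ := eight_of_insert K.big_U ht2 htU (K.commute_U ht hte)
  exact ⟨E, hE, h8, hle _ K.U_le ht, hUE, htE⟩

/-- A big subgroup commuting with the four group. -/
theorem gen_eq_of_commute (K : Conf S z e) {X : Subgroup G} (hX : IsBig X)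
    (hXS : X ≤ (S : Subgroup G)) (hc : ∀ x ∈ X, Commute x e) : gen X = wgen z e :=
  le_antisymm (gen_le_gen K.con hX.1 K.big_U fun x hx => K.commute_U (hXS hx) (hc x hx))
    (gen_le_gen K.con K.big_U.1 hX fun v hv x hx => (K.commute_U (hXS hx) (hc x hx) v hv).symm)

theorem gen_eight (K : Conf S z e) {E : Subgroup G} (hE : Cfsg.IsElementaryAbelian 2 E)
    (h8 : 8 ≤ Nat.card E) (hES : E ≤ (S : Subgroup G)) : gen E = wgen z e := by
  set V := E ⊓ centralizer ({e} : Set G) with hV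
  have h2 : Nat.card E ≤ 2 * Nat.card V := card_le_two_mul inf_le_left fun a ha b hb ha' hb' => by
    refine mem_inf.mpr ⟨mul_mem ha hb, mem_centralizer_singleton_iff.mpr
      (K.commute_mul (hES ha) (hES hb) (fun h => ha' ⟨ha, mem_centralizer_singleton_iff.mpr h.eq⟩)
        (fun h => hb' ⟨hb, mem_centralizer_singleton_iff.mpr h.eq⟩)).eq⟩
  have hVb : IsBig V := by
    refine ⟨⟨⟨⟨fun a b => Subtype.ext (commute_of_elementary hE a.2.1 b.2.1).eq⟩⟩,
      fun x hx => hE.2 x hx.1⟩, by omega⟩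
  rw [gen_eq_of_le K.con ⟨hE, le_trans (by norm_num) h8⟩ hVb inf_le_left]
  exact K.gen_eq_of_commute hVb (inf_le_left.trans hES) fun x hx =>
    mem_centralizer_singleton_iff.mp hx.2

theorem odd_wgen (K : Conf S z e) : Odd (Nat.card (wgen z e)) := by
  obtain ⟨E, hE, h8, hES, -⟩ := K.eight
  rw [← K.gen_eight hE h8 hES]
  exact odd_gen K.con hE h8

theorem mem_normalizer_wgen (K : Conf S z e) {g : G}
    (h : gen ((four z e).map (MulAut.conj g).toMonoidHom) = wgen z e) :
    g ∈ normalizer (wgen z e : Set G) := by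
  rw [mem_normalizer_iff_map_conj_eq]
  exact (gen_map_conj g _).trans h

theorem sylow_le (K : Conf S z e) : (S : Subgroup G) ≤ normalizer (wgen z e : Set G) := by
  intro s hs
  refine K.mem_normalizer_wgen (congrArg gen ?_)
  refine Subgroup.eq_of_le_of_card_ge ?_ (card_map_conj s _).ge
  rw [Subgroup.map_le_iff_le_comap]
  refine four_le ?_ ?_
  · show s * z * s⁻¹ ∈ four z e
    rw [← (K.z_central s hs).eq, mul_inv_cancel_right]
    exact left_mem_four z e
  · show s * e * s⁻¹ ∈ four z e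
    rcases K.e_conj s hs with h | h <;> rw [h]
    · exact right_mem_four z e
    · exact mul_mem (left_mem_four z e) (right_mem_four z e)

/-- The completion of the signalizer functor meets each centralizer in the core. -/
theorem inf_centralizer_le (K : Conf S z e) {a : G} (ha : a ∈ four z e) (ha1 : a ≠ 1) :
    wgen z e ⊓ centralizer ({a} : Set G) ≤ Cfsg.centralizerPPrimeCore 2 a := by
  haveI : Fact (Nat.Prime 2) := ⟨Nat.prime_two⟩
  obtain ⟨E, hE, h8, hES, hUE⟩ := K.eight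
  have hc : ∀ x ∈ E, ∀ y ∈ E, Commute x y := fun x hx y hy => commute_of_elementary hE hx hy
  have hfun : Cfsg.IsSolvableSignalizerFunctor 2 E (Cfsg.centralizerPPrimeCore (G := G) 2) := by
    refine ⟨⟨fun a _ _ => InvChar68.Signalizer.cpc_le a, fun a _ _ h => ?_,
      fun a ha _ b hb x hx => ?_, fun a ha ha1 b hb hb1 => ?_⟩,
      fun a _ _ => PF14.feitThompson _ (InvChar68.Signalizer.cpc_odd a)⟩
    · exact (Nat.not_even_iff_odd.mpr (InvChar68.Signalizer.cpc_odd a)) (even_iff_two_dvd.mpr h)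
    · exact (mem_normalizer_iff.mp (InvChar68.Signalizer.le_normalizer_cpc a
        (mem_centralizer_singleton_iff.mpr (hc b hb a ha).eq)) x).mp hx
    · exact balance ⟨1, by rw [pow_one]; exact orderOf_of_sq (hE.2 a ha) ha1⟩
        (K.con b (orderOf_of_sq (hE.2 b hb) hb1)) (hc a ha b hb)
  obtain ⟨W0, hW0, hle⟩ := SFT45.completable_of_odd hE (le_trans (by norm_num) h8) hfun
    fun a _ _ => InvChar68.Signalizer.cpc_odd a
  refine le_trans (inf_le_inf_right _ ?_) (hW0.2.2.2 a (hUE ha) ha1)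
  exact iSup_le fun ⟨b, hb, hb1⟩ => hle b (hUE hb) hb1

end Conf

/-- The configuration exists. -/
theorem exists_conf
    (hcon : ∀ j : G, orderOf j = 2 → Cfsg.IsPConstrained 2 ↥(centralizer ({j} : Set G)))
    (h3 : ¬ Cfsg.PRankLE 2 2 G) (S : Sylow 2 G) : ∃ z e : G, Conf S z e := by
  haveI : Fact (Nat.Prime 2) := ⟨Nat.prime_two⟩
  obtain ⟨F, hFS, hF, hF8⟩ := exists_eight_le_sylow h3 S
  have hF8' : 8 ≤ Nat.card (F.subgroupOf (S : Subgroup G)) := by
    rwa [Nat.card_congr (Subgroup.subgroupOfEquivOfLe hFS).toEquiv]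
  obtain ⟨U, hUn, hU4, hUsq⟩ := Involution.exists_normal_four S.isPGroup' hF8' fun x hx =>
    Subtype.ext (by
      rw [Subgroup.coe_mul, ← pow_two]
      exact hF.2 _ hx)
  obtain ⟨z, hzU, hzc, hzo⟩ := Involution.exists_central_mem_normal (p := 2) S.isPGroup' U
    (fun h => by rw [h, Subgroup.card_bot] at hU4; omega)
  obtain ⟨e, heU, he1, hez⟩ := exists_ne_ne hU4.ge z
  have hsq : ∀ x ∈ U, ((x : ↥(S : Subgroup G)) : G) ^ 2 = 1 := fun x hx => by
    rw [pow_two]
    exact congrArg Subtype.val (hUsq x hx)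
  have hz1 : (z : G) ≠ 1 := fun h => by
    rw [show z = 1 from Subtype.ext h, orderOf_one] at hzo
    omega
  have hzS : ∀ s ∈ (S : Subgroup G), Commute (z : G) s := fun s hs =>
    (congrArg Subtype.val (mem_center_iff.mp hzc ⟨s, hs⟩)).symm
  have hbig := isBig_four (hsq z hzU) (hsq e heU) hz1 (fun h => he1 (Subtype.ext h))
    (fun h => hez (Subtype.ext h.symm)) (hzS e e.2)
  have hUeq : U.map (S : Subgroup G).subtype = four (z : G) e := by
    refine (Subgroup.eq_of_le_of_card_ge (H := four (z : G) e)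
      (K := U.map (S : Subgroup G).subtype) (four_le ⟨z, hzU, rfl⟩ ⟨e, heU, rfl⟩) ?_).symm
    rw [Subgroup.card_map_of_injective (S : Subgroup G).subtype_injective, hU4]
    exact hbig.2
  have hconj : ∀ s ∈ (S : Subgroup G), s * e * s⁻¹ = (e : G) ∨ s * e * s⁻¹ = (z : G) * e := by
    intro s hs
    have h1 : s * e * s⁻¹ ∈ four (z : G) e := by
      rw [← hUeq]
      exact ⟨⟨s, hs⟩ * e * (⟨s, hs⟩)⁻¹, hUn.conj_mem e heU _, rfl⟩
    rcases eq_of_mem_four (hsq z hzU) (hsq e heU) (hzS e e.2) h1 with h | h | h | h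
    · exact absurd (Subtype.ext (conj_eq_one_iff.mp h)) he1
    · refine absurd (Subtype.ext ?_) hez
      have h2 : s * (e : G) = s * z := by
        rw [← (hzS s hs).eq]
        exact mul_inv_eq_iff_eq_mul.mp h
      exact mul_left_cancel h2
    · exact Or.inl h
    · exact Or.inr h
  refine ⟨z, e, hcon, z.2, e.2, hsq z hzU, hsq e heU, hz1, fun h => he1 (Subtype.ext h),
    fun h => hez (Subtype.ext h), hzS, hconj, ?_⟩
  set V := F ⊓ centralizer ({(e : G)} : Set G) with hV
  have hFV : Nat.card F ≤ 2 * Nat.card V := card_le_two_mul inf_le_left fun a ha b hb ha' hb' => by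
    have hcj : ∀ {s}, s ∈ F → s ∉ V → s * e * s⁻¹ = (z : G) * e := fun {s} hs hn =>
      (hconj s (hFS hs)).resolve_left fun h => hn (mem_inf.mpr ⟨hs,
        mem_centralizer_singleton_iff.mpr (mul_inv_eq_iff_eq_mul.mp h)⟩)
    refine mem_inf.mpr ⟨mul_mem ha hb, mem_centralizer_singleton_iff.mpr
      (mul_inv_eq_iff_eq_mul.mp ?_)⟩
    rw [show a * b * (e : G) * (a * b)⁻¹ = a * (b * e * b⁻¹) * a⁻¹ by group, hcj hb hb',
      show a * ((z : G) * e) * a⁻¹ = a * z * a⁻¹ * (a * e * a⁻¹) by group, hcj ha ha',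
      (hzS a (hFS ha)).symm.eq, mul_inv_cancel_right, ← mul_assoc, ← pow_two, hsq z hzU, one_mul]
  have hcV : ∀ v ∈ V, ∀ w ∈ four (z : G) e, Commute v w := fun v hv =>
    commute_four (hzS v (hFS hv.1)).symm (mem_centralizer_singleton_iff.mp hv.2)
  by_cases hVU : V ≤ four (z : G) e
  · have h4 : Nat.card (four (z : G) e) = 4 := by
      rw [← hUeq, Subgroup.card_map_of_injective (S : Subgroup G).subtype_injective, hU4]
    exact ⟨F, hF, hF8, hFS, (Subgroup.eq_of_le_of_card_ge hVU (by omega)) ▸ inf_le_left⟩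
  · obtain ⟨f, hf, hfU⟩ := SetLike.not_le_iff_exists.mp hVU
    obtain ⟨E, hE, h8, hUE, -, hle⟩ := eight_of_insert hbig (hF.2 f hf.1) hfU (hcV f hf)
    exact ⟨E, hE, h8, hle _ (four_le z.2 e.2) (hFS hf.1), hUE⟩

end Cfsg.Agent.Dichotomy43
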