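import Cfsg.Agent.Dichotomy43.Data
import Cfsg.Agent.BenderUse45.Consumers

/-!
# The Dichotomy Theorem from `BenderSplit`
-/

set_option autoImplicit false

namespace Cfsg.Agent.Dichotomy43

universe u

/-- The statement of S1296 from `BenderSplit`. -/
theorem s1296_of (hsp : BenderCons37.BenderSplit.{u}) {G : Type u} [Group G] [Finite G]
    (heven : Even (Nat.card G)) (hO2 : ∀ N : Subgroup G, N.Normal → N.index ≠ 2)
    (hO : Cfsg.oddCore G = ⊥) :
    Cfsg.PRankLE 2 2 G ∨ Cfsg.IsComponentType G ∨ Cfsg.IsCharacteristicTwoType G :=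
  dichotomy (BenderUse45.benderCore_of hsp) heven hO2 hO

end Cfsg.Agent.Dichotomy43
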